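import Groth.Agent.KPull28.Basic
import Groth.Agent.ExtPowEx28.Pull
import Groth.Agent.KModel28.Basic
import Groth.Agent.KPB28.ExtSes
import Groth.Agent.LambdaLib.Basic

/-!
# Pullback is a λ-homomorphism
-/

set_option autoImplicit false
set_option linter.style.haveILetI false
set_option backward.isDefEq.respectTransparency.types false

universe u v w

open CategoryTheory CategoryTheory.Limits AlgebraicGeometry
open Groth.Agent.Coherent LambdaRing

noncomputable section

namespace Groth.Agent.KSplit28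

/-- `K(X)` as a pre-λ-ring. -/
structure IsKRing (X : Scheme.{u}) (K : Type v) [CommRing K] [LambdaOps K] (φ : SGA6.Kvb X →+ K) : Prop where
  bijective : Function.Bijective φ
  map_one : φ (KRR.cl X (Coh.structureModule X)) = 1
  map_mul : ∀ E F : X.Modules, FlatMod.IsFinLocFree E → FlatMod.IsFinLocFree F →
    φ (KRR.cl X E) * φ (KRR.cl X F) = φ (KRR.cl X (((DCoh.tensorBi (X := X)).obj E).obj F))
  map_lam : ∀ (i : ℕ) (E L : X.Modules), FlatMod.IsFinLocFree E → FlatMod.IsFinLocFree L →
    ExtPow.IsExtPow i E L → LambdaOps.lam i (φ (KRR.cl X E)) = φ (KRR.cl X L)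

variable {X Y : Scheme.{u}} {KX : Type v} {KY : Type w} [CommRing KX] [LambdaOps KX] [CommRing KY] [LambdaOps KY]
  {φX : SGA6.Kvb X →+ KX} {φY : SGA6.Kvb Y →+ KY}

theorem IsKRing.induction (hY : IsKRing Y KY φY) {motive : KY → Prop} (h0 : motive 0)
    (hcl : ∀ E, FlatMod.IsFinLocFree E → motive (φY (KRR.cl Y E)))
    (hneg : ∀ a, motive a → motive (-a)) (hadd : ∀ a b, motive a → motive b → motive (a + b)) (x : KY) :
    motive x := by
  obtain ⟨k, rfl⟩ := hY.bijective.2 x
  refine KvbLam28.kvb_induction (P := fun k => motive (φY k)) (by simpa using h0) hcl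
    (fun a h => by simpa using hneg _ h) (fun a b ha hb => by simpa using hadd _ _ ha hb) k

theorem lam_eq_zero_of_rankOne {L : X.Modules} (hX : IsKRing X KX φX) (hL : FlatMod.IsFinLocFreeOfRank 1 L)
    {j : ℕ} (hj : 2 ≤ j) : LambdaOps.lam j (φX (KRR.cl X L)) = 0 := by
  obtain ⟨M, hM, hp⟩ := ExtPowEx28.exists_isExtPow (VarietyLib.isFinLocFree_of_rank hL) j
  have hr := KPB28.rank_extPow hp hL
  rw [Nat.choose_eq_zero_of_lt (by omega)] at hr
  rw [hX.map_lam j L M (VarietyLib.isFinLocFree_of_rank hL) hM hp, KModel28.cl_isZero (KModel28.isZero_of_rank_zero hr),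
    map_zero]

theorem lam_one_eq_zero (hX : IsKRing X KX φX) {j : ℕ} (hj : 2 ≤ j) : LambdaOps.lam j (1 : KX) = 0 := by
  rw [← hX.map_one]; exact lam_eq_zero_of_rankOne hX KModel28.rank_structure hj

/-- The pullback is a λ-homomorphism. -/
theorem exists_ringHom (f : X ⟶ Y) (hX : IsKRing X KX φX) (hY : IsKRing Y KY φY) :
    ∃ g : KY →+* KX, KRR.IsPull f φY φX g.toAddMonoidHom ∧
      ∀ (i : ℕ) (x : KY), g (LambdaOps.lam i x) = LambdaOps.lam i (g x) := by
  obtain ⟨g₀, hg₀, -⟩ := KPull28.existsUnique_isPull f φX φY hY.bijective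
  have hpl : ∀ {E : Y.Modules}, FlatMod.IsFinLocFree E → FlatMod.IsFinLocFree ((Scheme.Modules.pullback f).obj E) :=
    fun hE => DCat.PullPerf.isFinLocFree_pullback f hE
  have hmul : ∀ x y, g₀ (x * y) = g₀ x * g₀ y := fun x y => by
    refine hY.induction (motive := fun x => g₀ (x * y) = g₀ x * g₀ y) (by simp) (fun E hE => ?_) ?_ ?_ x
    · refine hY.induction (motive := fun y => g₀ (φY (KRR.cl Y E) * y) = g₀ (φY (KRR.cl Y E)) * g₀ y) (by simp)
        (fun F hF => ?_) ?_ ?_ y
      · rw [hY.map_mul E F hE hF, hg₀ E hE, hg₀ F hF, hX.map_mul _ _ (hpl hE) (hpl hF)]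
        refine (hg₀ _ (ExtFilt28.isFinLocFree_tensor hE hF)).trans ?_
        exact congrArg φX (ExtFilt28.clv_iso (DCat.PullTensor.pullTensorIso f E F))
      · intro a h; rw [mul_neg, map_neg, h, map_neg, mul_neg]
      · intro a b ha hb; rw [mul_add, map_add, ha, hb, map_add, mul_add]
    · intro a h; rw [neg_mul, map_neg, h, map_neg, neg_mul]
    · intro a b ha hb; rw [add_mul, map_add, ha, hb, map_add, add_mul]
  have hone : g₀ 1 = 1 := by
    rw [← hY.map_one, hg₀ _ KvbLam28.isFinLocFree_structure, ← hX.map_one]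
    exact congrArg φX (ExtFilt28.clv_iso (PicLoc.pullbackStructureIso f))
  let g : KY →+* KX :=
    { toFun := g₀, map_one' := hone, map_mul' := hmul, map_zero' := map_zero g₀, map_add' := map_add g₀ }
  refine ⟨g, hg₀, fun i x => ?_⟩
  have key : PowerSeries.map g (lamSeries x) = lamSeries (g x) := by
    refine hY.induction (motive := fun x => PowerSeries.map g (lamSeries x) = lamSeries (g x)) ?_ (fun E hE => ?_) ?_ ?_ x
    · rw [map_zero, LambdaLib.lamSeries_zero, map_one, LambdaLib.lamSeries_zero]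
    · ext j
      rw [PowerSeries.coeff_map, LambdaLib.coeff_lamSeries, LambdaLib.coeff_lamSeries]
      obtain ⟨M, hM, hp⟩ := ExtPowEx28.exists_isExtPow hE j
      show g₀ _ = LambdaOps.lam j (g₀ _)
      rw [hY.map_lam j E M hE hM hp, hg₀ M hM, hg₀ E hE,
        hX.map_lam j _ _ (hpl hE) (hpl hM) (ExtPowEx28.isExtPow_pullback_vb f hE hp)]
    · intro a h
      refine ((LambdaLib.isUnit_lamSeries (g a)).mul_right_inj).1 ?_
      conv_lhs => rw [← h, ← map_mul, ← LambdaLib.lamSeries_add, add_neg_cancel, LambdaLib.lamSeries_zero, map_one]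
      rw [← LambdaLib.lamSeries_add, map_neg, add_neg_cancel, LambdaLib.lamSeries_zero]
    · intro a b ha hb
      rw [LambdaLib.lamSeries_add, map_mul, ha, hb, map_add, LambdaLib.lamSeries_add]
  rw [← LambdaLib.coeff_lamSeries, ← PowerSeries.coeff_map, key, LambdaLib.coeff_lamSeries]

end Groth.Agent.KSplit28
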