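import Groth.Agent.KSplit28.Basic
import Groth.Agent.KSplit28.Lam
import Groth.Agent.LambdaLib.Pos

/-!
# The splitting property of `K` of vector bundles
-/

set_option autoImplicit false
set_option linter.style.haveILetI false
set_option backward.isDefEq.respectTransparency false

universe u v

open CategoryTheory CategoryTheory.Limits AlgebraicGeometry TopologicalSpace
open Groth.Agent.Coherent LambdaRing

noncomputable section

namespace Groth.Agent.KSplit28

section ext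

variable {X Y : Scheme.{u}} {KX : Type v} {KY : Type v} [CommRing KX] [LambdaOps KX] [CommRing KY] [LambdaOps KY]
  {PX : PosStructure KX} {PY : PosStructure KY} {φX : SGA6.Kvb X →+ KX} {φY : SGA6.Kvb Y →+ KY}

theorem isKRing_of_isModel (h : KRR.IsModel X KX PX φX) : IsKRing X KX φX :=
  ⟨h.bijective, h.map_one, h.map_mul, h.map_lam⟩

theorem isPull_unique (f : X ⟶ Y) (hY : Function.Bijective φY) {g g' : KY →+ KX}
    (h : KRR.IsPull f φY φX g) (h' : KRR.IsPull f φY φX g') : g = g' :=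
  (KPull28.existsUnique_isPull f φX φY hY).unique h h'

/-- The pullback on models: a λ-homomorphism respecting ranks and positive elements. -/
theorem exists_pullHom [ConnectedSpace ↥Y] [ConnectedSpace ↥X] (f : X ⟶ Y) (hX : KRR.IsModel X KX PX φX)
    (hY : KRR.IsModel Y KY PY φY) :
    ∃ g : KY →+* KX, KRR.IsPull f φY φX g.toAddMonoidHom ∧ IsLambdaHom g ∧
      (∀ x, PX.aug (g x) = PY.aug x) ∧ ∀ e ∈ PY.pos, g e ∈ PX.pos := by
  obtain ⟨g, hg, hl⟩ := exists_ringHom f (isKRing_of_isModel hX) (isKRing_of_isModel hY)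
  refine ⟨g, hg, hl, fun x => ?_, fun e he => ?_⟩
  · refine (isKRing_of_isModel hY).induction (motive := fun x => PX.aug (g x) = PY.aug x) (by simp) (fun E hE => ?_)
      (fun a h => by simp [h]) (fun a b ha hb => by simp [ha, hb]) x
    obtain ⟨n, hn⟩ := KModel28.exists_rank hE
    rw [show g (φY (KRR.cl Y E)) = _ from hg E hE, hY.aug_cl n E hn,
      hX.aug_cl n _ (VarietyLib.isFinLocFreeOfRank_pullback f hn)]
  · obtain ⟨n, E, hn, hE, rfl⟩ := (hY.mem_pos_iff e).1 he
    exact (hX.mem_pos_iff _).2 ⟨n, _, hn, VarietyLib.isFinLocFreeOfRank_pullback f hE,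
      (hg E (VarietyLib.isFinLocFree_of_rank hE)).symm⟩

theorem injective_of_pulls (f : X ⟶ Y) {q : SGA6.Kvb Y →+ SGA6.Kvb X} (hq : Pulls f q) (hqi : Function.Injective q)
    (hX : Function.Bijective φX) (hY : Function.Bijective φY) {g : KY →+ KX} (hg : KRR.IsPull f φY φX g) :
    Function.Injective g := by
  have hgq : ∀ z, g (φY z) = φX (q z) := fun z => by
    refine KvbLam28.kvb_induction (P := fun z => g (φY z) = φX (q z)) ?_ ?_ ?_ ?_ z
    · simp
    · intro E hE; rw [hg E hE, hq E hE]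
    · intro a h; rw [map_neg, map_neg, h, map_neg, map_neg]
    · intro a b ha hb; rw [map_add, map_add, ha, hb, map_add, map_add]
  intro a b hab
  obtain ⟨a, rfl⟩ := hY.2 a
  obtain ⟨b, rfl⟩ := hY.2 b
  rw [hgq, hgq] at hab
  rw [hqi (hX.1 hab)]

end ext

/-- A model of the λ-ring of a connected Noetherian scheme has the splitting property. -/
theorem hasSplitting (X : Scheme.{u}) [IsNoetherian X] [ConnectedSpace ↥X] (K : Type (u + 1)) [CommRing K]
    [LambdaOps K] (P : PosStructure K) (φ : SGA6.Kvb X →+ K) (hK : KRR.IsModel X K P φ) : HasSplitting K P := by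
  classical
  refine ⟨{L | ∃ (Y : Scheme.{u}) (_ : IsNoetherian Y) (_ : ConnectedSpace ↥Y) (ψ : SGA6.Kvb Y →+ L.carrier),
    KRR.IsModel Y L.carrier L.posStr ψ}, ⟨X, inferInstance, inferInstance, φ, hK⟩, ?_⟩
  rintro L ⟨Y, hN, hC, ψ, hL⟩ e he
  obtain ⟨n, E, -, hE, rfl⟩ := (hL.mem_pos_iff e).1 he
  obtain ⟨Y', f, ⟨hN', hC'⟩, ⟨q, hq, hqi⟩, Ls, hLs, hsum⟩ := exists_split
    (fun A : Scheme.{u} => IsNoetherian A ∧ ConnectedSpace ↥A)
    (fun {A B} (f : A ⟶ B) => ∃ q, Pulls f q ∧ Function.Injective q)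
    (fun {A} _ => ⟨_, pulls_id A, Function.injective_id⟩)
    (fun {A B C g f} _ _ ⟨a, ha, ha'⟩ ⟨b, hb, hb'⟩ => ⟨a.comp b, pulls_comp ha hb, ha'.comp hb'⟩)
    (fun {P T r E π O1 q} hT hE hPB => by
      obtain ⟨hTN, hTC⟩ := hT
      obtain ⟨p, hp⟩ := KPull28.exists_pull π
      exact ⟨⟨isNoetherian (KPB28.locPn_of_isProjBundle hE hPB), connectedSpace (KPB28.locPn_of_isProjBundle hE hPB)⟩,
        p, hp, injective_pulls_bundle hE hPB hp⟩)
    n (S := Y) ⟨hN, hC⟩ E hE
  haveI := hN'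
  haveI := hC'
  obtain ⟨K', _, _, P', φ', hK'⟩ := KModel28.exists_model Y'
  obtain ⟨g, hg, hl, haug, hpos⟩ := exists_pullHom f hK' hL
  refine ⟨⟨K', P'⟩, ⟨Y', inferInstance, inferInstance, φ', hK'⟩, g,
    ⟨hl, injective_of_pulls f hq hqi hK'.bijective hL.bijective hg, haug, hpos⟩,
    (Finset.univ.val.map fun j => φ' (KRR.cl Y' (Ls j))), ?_, ?_⟩
  · intro w hw
    obtain ⟨j, -, rfl⟩ := Multiset.mem_map.1 hw
    exact ⟨(hK'.mem_pos_iff _).2 ⟨1, _, le_rfl, hLs j, rfl⟩, hK'.aug_cl 1 _ (hLs j)⟩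
  · rw [show g (ψ (KRR.cl Y E)) = _ from hg E (VarietyLib.isFinLocFree_of_rank hE), hsum, map_sum]
    rfl

end Groth.Agent.KSplit28
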