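import Groth.Agent.KPull28.Basic
import Groth.Agent.KPB28.Reg
import Groth.Agent.KPB28.ExtSes
import Groth.Agent.VarietyLib.CurveDegree
import Groth.Agent.CycLib28.PB.Ops.TensorFree

/-!
# Bundles of bounded rank and clopen pieces
-/

set_option autoImplicit false
set_option linter.style.haveILetI false
set_option backward.isDefEq.respectTransparency false

universe u

open CategoryTheory CategoryTheory.Limits AlgebraicGeometry TopologicalSpace Opposite
open Groth.Agent.Coherent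

noncomputable section

namespace Groth.Agent.KSplit28

/-- Locally free with all ranks in `[a, N]`. -/
def RankIn {X : Scheme.{u}} (a N : ℕ) (E : X.Modules) : Prop :=
  ∀ x : X, ∃ (U : X.Opens) (n : ℕ), x ∈ U ∧ a ≤ n ∧ n ≤ N ∧
    FlatMod.IsFinLocFreeOfRank n ((Scheme.Modules.pullback U.ι).obj E)

variable {X : Scheme.{u}} {a N : ℕ} {E : X.Modules}

theorem rank_shrink {U V : X.Opens} (h : V ≤ U) {n : ℕ}
    (hU : FlatMod.IsFinLocFreeOfRank n ((Scheme.Modules.pullback U.ι).obj E)) :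
    FlatMod.IsFinLocFreeOfRank n ((Scheme.Modules.pullback V.ι).obj E) :=
  KModel28.rank_iso (((Scheme.Modules.pullbackComp (X.homOfLE h) U.ι).app E) ≪≫
    (Scheme.Modules.pullbackCongr (X.homOfLE_ι h)).app E)
    (VarietyLib.isFinLocFreeOfRank_pullback (X.homOfLE h) hU)

theorem rankIn_of_rank {n : ℕ} (ha : a ≤ n) (hN : n ≤ N) (hE : FlatMod.IsFinLocFreeOfRank n E) : RankIn a N E :=
  fun _ => ⟨⊤, n, trivial, ha, hN, VarietyLib.isFinLocFreeOfRank_pullback _ hE⟩

theorem RankIn.isFinLocFree (h : RankIn a N E) : FlatMod.IsFinLocFree E := fun x => by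
  obtain ⟨U, n, hx, -, -, hU⟩ := h x
  obtain ⟨W, hxW, ⟨e⟩⟩ := hU ⟨x, hx⟩
  let j := W.ι ≫ U.ι
  obtain ⟨ef⟩ := DCat.PerfTensor.nonempty_pullback_free j.isoOpensRange.inv n
  refine ⟨j.opensRange, n, ⟨⟨⟨x, hx⟩, hxW⟩, rfl⟩, ⟨?_⟩⟩
  exact (Scheme.Modules.restrictFunctorCongr j.isoOpensRange_inv_comp.symm).app E ≪≫
    (Scheme.Modules.restrictFunctorComp j.isoOpensRange.inv j).app E ≪≫
    (Scheme.Modules.restrictFunctorIsoPullback j.isoOpensRange.inv).app _ ≪≫
    (Scheme.Modules.pullback j.isoOpensRange.inv).mapIso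
      ((Scheme.Modules.restrictFunctorComp W.ι U.ι).app E ≪≫
        (Scheme.Modules.restrictFunctor W.ι).mapIso ((Scheme.Modules.restrictFunctorIsoPullback U.ι).app E) ≪≫ e) ≪≫ ef

theorem RankIn.pullback {Y : Scheme.{u}} (f : Y ⟶ X) (h : RankIn a N E) :
    RankIn a N ((Scheme.Modules.pullback f).obj E) := fun y => by
  obtain ⟨U, n, hx, ha, hN, hU⟩ := h (f.base y)
  refine ⟨f ⁻¹ᵁ U, n, hx, ha, hN, KModel28.rank_iso ?_ (VarietyLib.isFinLocFreeOfRank_pullback (f ∣_ U) hU)⟩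
  exact (Scheme.Modules.pullbackComp (f ∣_ U) U.ι).app E ≪≫
    (Scheme.Modules.pullbackCongr (morphismRestrict_ι f U)).app E ≪≫
    ((Scheme.Modules.pullbackComp (f ⁻¹ᵁ U).ι f).app E).symm

theorem RankIn.tensor {b M : ℕ} {F : X.Modules} (h : RankIn a N E) (h' : RankIn b M F) :
    RankIn (a * b) (N * M) (CohB1.tensorMod E F) := fun x => by
  obtain ⟨U, n, hx, ha, hN, hU⟩ := h x
  obtain ⟨V, m, hy, hb, hM, hV⟩ := h' x
  refine ⟨U ⊓ V, n * m, ⟨hx, hy⟩, Nat.mul_le_mul ha hb, Nat.mul_le_mul hN hM, ?_⟩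
  exact KModel28.rank_iso (DCat.PullTensor.pullTensorIso (U ⊓ V).ι E F).symm
    (CycLib28.PB.Ops.isFinLocFreeOfRank_tensor (rank_shrink inf_le_left hU) (rank_shrink inf_le_right hV))

/-- Being of a given rank is local. -/
theorem rank_of_local {n : ℕ} (h : ∀ x : X, ∃ U : X.Opens, x ∈ U ∧
    FlatMod.IsFinLocFreeOfRank n ((Scheme.Modules.pullback U.ι).obj E)) : FlatMod.IsFinLocFreeOfRank n E :=
  KPB28.isFinLocFreeOfRank_of_local E fun x => by
    obtain ⟨U, hx, hU⟩ := h x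
    exact ⟨U, U.ι, inferInstance, (Scheme.Opens.opensRange_ι U).symm ▸ hx,
      KModel28.rank_iso ((Scheme.Modules.restrictFunctorIsoPullback U.ι).app E).symm hU⟩

theorem rank_of_rankIn (h : RankIn N N E) : FlatMod.IsFinLocFreeOfRank N E :=
  rank_of_local fun x => by
    obtain ⟨U, n, hx, ha, hN, hU⟩ := h x
    obtain rfl : n = N := le_antisymm hN ha
    exact ⟨U, hx, hU⟩

/-- Exterior powers beyond the rank vanish. -/
theorem isZero_extPow_of_rankIn {j : ℕ} (hj : N < j) (h : RankIn a N E) {L : X.Modules}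
    (hL : ExtPow.IsExtPow j E L) : IsZero L :=
  KModel28.isZero_of_rank_zero (rank_of_local fun x => by
    obtain ⟨U, n, hx, -, hN, hU⟩ := h x
    have hr := KPB28.rank_extPow (ExtPowEx28.isExtPow_pullback_vb U.ι h.isFinLocFree hL) hU
    rw [Nat.choose_eq_zero_of_lt (by omega)] at hr
    exact ⟨U, hx, hr⟩)

/-- Every bundle on a quasi-compact scheme has bounded rank. -/
theorem exists_rankIn [CompactSpace X] (hE : FlatMod.IsFinLocFree E) : ∃ N, RankIn 0 N E := by
  choose U n hx e using hE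
  obtain ⟨s, hs⟩ := isCompact_univ.elim_finite_subcover (fun x : X => (U x : Set X)) (fun x => (U x).2)
    (fun x _ => Set.mem_iUnion.2 ⟨x, hx x⟩)
  refine ⟨s.sup n, fun x => ?_⟩
  obtain ⟨y, hy, hxy⟩ := Set.mem_iUnion₂.1 (hs (Set.mem_univ x))
  exact ⟨U y, n y, hxy, Nat.zero_le _, Finset.le_sup hy,
    KModel28.rank_iso ((e y).some.symm ≪≫ (Scheme.Modules.restrictFunctorIsoPullback (U y).ι).app E)
      (VarietyLib.isFinLocFreeOfRank_freeMod (n y))⟩

/-- The structure module of a clopen piece. -/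
abbrev piece (U : X.Opens) : X.Modules := (Scheme.Modules.pushforward U.ι).obj (Coh.structureModule U.toScheme)

theorem rank_piece_self (U : X.Opens) :
    FlatMod.IsFinLocFreeOfRank 1 ((Scheme.Modules.pullback U.ι).obj (piece U)) :=
  KModel28.rank_iso (asIso ((Scheme.Modules.pullbackPushforwardAdjunction U.ι).counit.app _)).symm
    KModel28.rank_structure

theorem rank_piece_compl (U V : X.Opens) (hUV : U ⊓ V = ⊥) :
    FlatMod.IsFinLocFreeOfRank 0 ((Scheme.Modules.pullback V.ι).obj (piece U)) := by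
  refine KModel28.rank_iso ((KModel28.freeMod_zero_isZero).iso ?_) (VarietyLib.isFinLocFreeOfRank_freeMod 0)
  refine IsZero.of_iso ?_ ((Scheme.Modules.restrictFunctorIsoPullback V.ι).app (piece U)).symm
  rw [IsZero.iff_id_eq_zero]
  refine Scheme.Modules.hom_ext _ _ fun W => ?_
  ext z
  have hW : U.ι ⁻¹ᵁ (V.ι ''ᵁ W) = ⊥ := by
    ext y
    refine iff_of_false (fun hy => ?_) id
    obtain ⟨v, -, hv⟩ := hy
    have : U.ι.base y ∈ U ⊓ V := ⟨y.2, hv ▸ v.2⟩
    rw [hUV] at this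
    exact this
  haveI : Subsingleton Γ(piece U, V.ι ''ᵁ W) := by
    show Subsingleton Γ(Coh.structureModule U.toScheme, U.ι ⁻¹ᵁ (V.ι ''ᵁ W))
    rw [hW]
    exact ⟨fun a b => Props12.eq_of_nhds _ _ _ fun y hy => hy.elim⟩
  exact @Subsingleton.elim _ this _ _

/-- One step towards constant rank: a piece raises the lowest rank. -/
theorem exists_piece_step (h : RankIn a N E) (ha : a < N) :
    ∃ M : X.Modules, RankIn 0 1 M ∧ RankIn (a + 1) N (E ⊞ M) := by
  classical
  choose U n hx hna hnN hU using h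
  haveI := CAlgH3.LocFreeFactor.isQCoh_of_finLocFree (RankIn.isFinLocFree (fun x => ⟨U x, n x, hx x, hna x, hnN x, hU x⟩))
  let A : X.Opens := ⨆ x : {x : X // n x = a}, U x.1
  let B : X.Opens := ⨆ x : {x : X // n x ≠ a}, U x.1
  have hAB : A ⊓ B = ⊥ := by
    refine eq_bot_iff.2 fun y hy => ?_
    obtain ⟨⟨x, hxa⟩, hy1⟩ := Opens.mem_iSup.1 hy.1
    obtain ⟨⟨x', hxa'⟩, hy2⟩ := Opens.mem_iSup.1 hy.2
    let W := U x ⊓ U x'
    haveI : Nonempty W.toScheme := ⟨⟨y, hy1, hy2⟩⟩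
    exact absurd ((KModel28.rank_unique (rank_shrink (V := W) inf_le_right (hU x'))
      (rank_shrink (V := W) inf_le_left (hU x))).trans hxa) hxa'
  refine ⟨piece A, fun x => ?_, fun x => ?_⟩
  · by_cases hA : x ∈ A
    · exact ⟨A, 1, hA, Nat.zero_le _, le_rfl, rank_piece_self A⟩
    · refine ⟨B, 0, Opens.mem_iSup.2 ⟨⟨x, fun h' => hA (Opens.mem_iSup.2 ⟨⟨x, h'⟩, hx x⟩)⟩, hx x⟩,
        le_rfl, Nat.zero_le _, rank_piece_compl A B hAB⟩
  · have hsplit := (ShortComplex.Splitting.ofHasBinaryBiproduct E (piece A)).shortExact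
    have hM : ∀ W : X.Opens, FlatMod.IsFinLocFree (piece A) → ∀ m l : ℕ,
        FlatMod.IsFinLocFreeOfRank m ((Scheme.Modules.pullback W.ι).obj E) →
        FlatMod.IsFinLocFreeOfRank l ((Scheme.Modules.pullback W.ι).obj (piece A)) →
        FlatMod.IsFinLocFreeOfRank (m + l) ((Scheme.Modules.pullback W.ι).obj (E ⊞ piece A)) :=
      fun W hP m l hm hl => CycLib28.PB.Ops.isFinLocFreeOfRank_extension
        (KPull28.shortExact_pullback W.ι hsplit hP) hm hl
    have hP : FlatMod.IsFinLocFree (piece A) := RankIn.isFinLocFree (a := 0) (N := 1) fun z => by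
      by_cases hA : z ∈ A
      · exact ⟨A, 1, hA, Nat.zero_le _, le_rfl, rank_piece_self A⟩
      · exact ⟨B, 0, Opens.mem_iSup.2 ⟨⟨z, fun h' => hA (Opens.mem_iSup.2 ⟨⟨z, h'⟩, hx z⟩)⟩, hx z⟩,
          le_rfl, Nat.zero_le _, rank_piece_compl A B hAB⟩
    by_cases hxa : n x = a
    · have hle : U x ≤ A := le_iSup (fun x : {x : X // n x = a} => U x.1) ⟨x, hxa⟩
      exact ⟨U x, n x + 1, hx x, by omega, by omega,
        hM (U x) hP _ _ (hU x) (rank_shrink hle (rank_piece_self A))⟩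
    · have hle : U x ≤ B := le_iSup (fun x : {x : X // n x ≠ a} => U x.1) ⟨x, hxa⟩
      exact ⟨U x, n x + 0, hx x, by have := hna x; omega, hnN x,
        hM (U x) hP _ _ (hU x) (rank_shrink hle (rank_piece_compl A B hAB))⟩

end Groth.Agent.KSplit28
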