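import Groth.Agent.KSplit28.Gamma
import Groth.Agent.KPr28.FreeBasis
import Groth.Agent.Coherent.ProjSpaceFlat

/-!
# The γ-filtration along projective space over a base
-/

set_option autoImplicit false
set_option linter.style.haveILetI false
set_option backward.isDefEq.respectTransparency false

universe u v

open CategoryTheory CategoryTheory.Limits AlgebraicGeometry TopologicalSpace Finset
open Groth.Agent.Coherent LambdaRing

noncomputable section

namespace Groth.Agent.KSplit28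

theorem connectedSpace_PY (n : ℕ) (Y : Scheme.{u}) [ConnectedSpace ↥Y] : ConnectedSpace ↥(KRR.PY n Y) := by
  haveI := geometricallyConnected_pr n Y
  haveI : Flat (KRR.pr n Y) := Coherent.flat_toBase n Y
  haveI := KPr28.locallyOfFinitePresentation_pr n Y
  exact GeometricallyConnected.connectedSpace (KRR.pr n Y) (KRR.pr n Y).isOpenMap

/-- `K(P^n_Y)` is `K(Y)[ℓ]/(ℓ - 1)^{n+1}` as a λ-ring. -/
theorem exists_PY_data (n : ℕ) (Y : Scheme.{u}) [IsNoetherian Y] [ConnectedSpace ↥Y]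
    {KP KY : Type v} [CommRing KP] [LambdaOps KP] [CommRing KY] [LambdaOps KY] {PP : PosStructure KP}
    {PY : PosStructure KY} {φP : SGA6.Kvb (KRR.PY n Y) →+ KP} {φY : SGA6.Kvb Y →+ KY}
    (hP : KRR.IsModel (KRR.PY n Y) KP PP φP) (hY : KRR.IsModel Y KY PY φY) :
    ∃ (g : KY →+* KP) (l : KP) (e : KY), KRR.IsPull (KRR.pr n Y) φY φP g.toAddMonoidHom ∧ e ∈ PY.pos ∧
      PY.aug e = n + 1 ∧ IsLambdaHom g ∧ (∀ x, PP.aug (g x) = PY.aug x) ∧ (∀ x ∈ PY.pos, g x ∈ PP.pos) ∧
      PP.IsLine l ∧ (∀ m : ℕ, φP (KRR.cl _ (Twist.twistOver n Y (m : ℤ))) = l ^ m) ∧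
      ∑ i ∈ range (n + 2), g ((-1 : KY) ^ i * LambdaOps.lam i e) * l ^ (n + 1 - i) = 0 ∧
      Function.Bijective (fun a : Fin (n + 1) → KY => ∑ i : Fin (n + 1), g (a i) * l ^ (i : ℕ)) := by
  classical
  haveI := connectedSpace_PY n Y
  obtain ⟨g, hg, hl, haug, hpos⟩ := exists_pullHom (KRR.pr n Y) hP hY
  let O := Coh.structureModule (KRR.PY n Y)
  have hO : FlatMod.IsFinLocFree O := Coherent.CohBC.isFinLocFree_structureModule _
  have hT : FlatMod.IsFinLocFreeOfRank 1 (Twist.twistOver n Y 1) :=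
    PicLib.isFinLocFreeOfRank_one (CM28.isInvertible_twistOver n Y 1)
  let l : KP := φP (KRR.cl _ (Twist.twistOver n Y 1))
  have hline : PP.IsLine l := ⟨(hP.mem_pos_iff _).2 ⟨1, _, le_rfl, hT, rfl⟩, hP.aug_cl 1 _ hT⟩
  have hpow : ∀ m : ℕ, φP (KRR.cl _ (Twist.twistOver n Y (m : ℤ))) = l ^ m := by
    intro m
    induction m with
    | zero =>
      rw [pow_zero, ← hP.map_one]
      obtain ⟨z⟩ := CM28.nonempty_twistOver_zero n Y
      exact congrArg φP (ExtFilt28.clv_iso z)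
    | succ m ih =>
      rw [pow_succ, ← ih, hP.map_mul _ _ (KPr28.isFinLocFree_twistOver _) (KPr28.isFinLocFree_twistOver _)]
      obtain ⟨z⟩ := CM28.nonempty_twistOver_add n Y (show (m : ℤ) + 1 = ((m + 1 : ℕ) : ℤ) by push_cast; ring)
      exact congrArg φP (ExtFilt28.clv_iso z).symm
  have h1 : ∀ j : ℕ, 2 ≤ j → LambdaOps.lam j (1 : KY) = 0 := fun j hj => lam_one_eq_zero (isKRing_of_isModel hY) hj
  refine ⟨g, l, ((n + 1 : ℕ) : KY), hg, PY.natCast_mem _ (Nat.succ_pos n), by rw [map_natCast]; push_cast; rfl,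
    hl, haug, hpos, hline, hpow, ?_, ?_⟩
  · have hrel := congrArg φP (KPr28.rel_vb (n := n) (Y := Y) hO 0)
    rw [map_zero, map_sum] at hrel
    refine Eq.trans (Finset.sum_congr rfl fun p hp => ?_) hrel
    rw [Finset.mem_range] at hp
    rw [LambdaLib.lam_natCast h1, map_mul, map_pow, map_neg, map_one, map_natCast, map_zsmul, zsmul_eq_mul]
    obtain ⟨z⟩ := KPr28.nonempty_twF_structure (n := n) (Y := Y) ((0 : ℤ) + (n + 1) - p)
    dsimp only
    rw [show KRR.cl _ (KRR.twF n Y ((0 : ℤ) + (n + 1) - p) O) = KRR.cl _ (Twist.twistOver n Y ((0 : ℤ) + (n + 1) - p)) from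
      ExtFilt28.clv_iso z, show (0 : ℤ) + (n + 1) - p = ((n + 1 - p : ℕ) : ℤ) by omega, hpow]
    push_cast
    ring
  · let eP : SGA6.Kvb (KRR.PY n Y) ≃+ KP := AddEquiv.ofBijective φP hP.bijective
    let eY : SGA6.Kvb Y ≃+ KY := AddEquiv.ofBijective φY hY.bijective
    let A : Fin (n + 1) → (SGA6.Kvb Y →+ SGA6.Kvb (KRR.PY n Y)) := fun i =>
      eP.symm.toAddMonoidHom.comp ((AddMonoidHom.mulRight (l ^ (i : ℕ))).comp (g.toAddMonoidHom.comp φY))
    have hb := KPr28.bijective_basis (n := n) (Y := Y) A fun i V hV => by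
      show eP.symm (g (φY (KRR.cl Y V)) * l ^ (i : ℕ)) = _
      rw [AddEquiv.symm_apply_eq, show g (φY (KRR.cl Y V)) = _ from hg V hV, ← hpow,
        hP.map_mul _ _ (DCat.PullPerf.isFinLocFree_pullback _ hV) (KPr28.isFinLocFree_twistOver _)]
      exact congrArg φP (ExtFilt28.clv_iso (AmpleLib.tensorComm _ _))
    have heq : (fun a : Fin (n + 1) → KY => ∑ i : Fin (n + 1), g (a i) * l ^ (i : ℕ)) =
        (fun z => eP z) ∘ (fun x : Fin (n + 1) → SGA6.Kvb Y => ∑ i, A i (x i)) ∘ (fun a i => eY.symm (a i)) := by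
      funext a
      simp only [Function.comp_apply, map_sum]
      refine Finset.sum_congr rfl fun i _ => ?_
      show _ = eP (eP.symm (g (φY (eY.symm (a i))) * l ^ (i : ℕ)))
      rw [AddEquiv.apply_symm_apply, show φY (eY.symm (a i)) = a i from eY.apply_symm_apply _]
    rw [heq]
    exact eP.bijective.comp (hb.comp (Function.bijective_iff_has_inverse.2
      ⟨fun x i => eY (x i), fun a => funext fun i => by simp, fun x => funext fun i => by simp⟩))

theorem comap_PY (n : ℕ) (Y : Scheme.{u}) [IsNoetherian Y] [ConnectedSpace ↥Y]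
    {KP KY : Type v} [CommRing KP] [LambdaOps KP] [CommRing KY] [LambdaOps KY] {PP : PosStructure KP}
    {PY : PosStructure KY} {φP : SGA6.Kvb (KRR.PY n Y) →+ KP} {φY : SGA6.Kvb Y →+ KY}
    (hP : KRR.IsModel (KRR.PY n Y) KP PP φP) (hY : KRR.IsModel Y KY PY φY) (hsP : HasSplitting KP PP)
    (g₀ : KY →+ KP) (hg₀ : KRR.IsPull (KRR.pr n Y) φY φP g₀) (k : ℕ) :
    (gammaFiltration PP k).comap g₀ = gammaFiltration PY k := by
  obtain ⟨g, l, e, hg, he, hr, hl, haug, hpos, hline, -, hrel, hbasis⟩ := exists_PY_data n Y hP hY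
  obtain rfl := isPull_unique (KRR.pr n Y) hY.bijective hg₀ hg
  exact comap_gammaFiltration he hr g l hl haug hpos hline hrel hbasis hsP k

end Groth.Agent.KSplit28
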