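import Groth.Agent.KSplit28.Model
import Groth.Agent.LambdaLib.KRRGammaExt
import Groth.Agent.S3789

/-!
# The γ-filtration along a projective bundle
-/

set_option autoImplicit false
set_option linter.style.haveILetI false
set_option backward.isDefEq.respectTransparency false

universe u v

open CategoryTheory CategoryTheory.Limits AlgebraicGeometry TopologicalSpace Finset
open Groth.Agent.Coherent LambdaRing

noncomputable section

namespace Groth.Agent.KSplit28

theorem pow_sub_one_eq {A : Type v} [CommRing A] (l : A) (i : ℕ) :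
    (l - 1) ^ i = ∑ j ∈ range (i + 1), ((-1 : A) ^ (i - j) * (i.choose j : A)) * l ^ j := by
  rw [sub_eq_add_neg, add_pow]
  exact Finset.sum_congr rfl fun j _ => by ring

section alg

variable {K K' : Type v} [CommRing K] [LambdaOps K] [CommRing K'] [LambdaOps K'] {P : PosStructure K}
  {P' : PosStructure K'}

theorem map_mem_gammaFiltration {g : K →+* K'} (hl : IsLambdaHom g) (haug : ∀ x, P'.aug (g x) = P.aug x) {k : ℕ}
    {x : K} (hx : x ∈ gammaFiltration P k) : g x ∈ gammaFiltration P' k := by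
  rcases Nat.eq_zero_or_pos k with rfl | hk
  · simp [gammaFiltration]
  refine LambdaLib.gammaFiltration_induction P (by omega) (motive := fun a => g a ∈ gammaFiltration P' k)
    (fun l hl' hsum => ?_) (by simp) (fun a b ha hb => by simpa using add_mem ha hb)
    (fun a ha => by simpa using neg_mem ha) hx
  have h := LambdaLib.gamma_prod_mem P' (n := k) (l.map fun p => (p.1, g p.2))
    (fun p hp => by
      obtain ⟨q, hq, rfl⟩ := List.mem_map.mp hp
      rw [haug]; exact hl' q hq)
    (by simpa [List.map_map, Function.comp_def] using hsum)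
  rw [List.map_map] at h
  rw [map_list_prod, List.map_map]
  simpa [Function.comp_def, LambdaLib.gamma_map hl] using h

/-- The filtration of `K[ℓ]/(p_e)` is spanned by the `a (ℓ - 1)^i`. -/
theorem gammaFiltration_le_gen {e : K} (he : e ∈ P.pos) {r : ℕ} (hr : P.aug e = r + 1) (g : K →+* K') (l : K')
    (hl : IsLambdaHom g) (haug : ∀ x, P'.aug (g x) = P.aug x) (hpos : ∀ x ∈ P.pos, g x ∈ P'.pos)
    (hline : P'.IsLine l) (hrel : ∑ i ∈ range (r + 2), g ((-1 : K) ^ i * LambdaOps.lam i e) * l ^ (r + 1 - i) = 0)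
    (hbasis : Function.Bijective fun a : Fin (r + 1) → K => ∑ i : Fin (r + 1), g (a i) * l ^ (i : ℕ))
    (hsplit : HasSplitting K' P') {k : ℕ} {x : K'} (hx : x ∈ gammaFiltration P' k) :
    x ∈ AddSubgroup.closure {y | ∃ i, i ≤ r ∧ ∃ a ∈ gammaFiltration P (k - i), g a * (l - 1) ^ i = y} := by
  classical
  let f := KRR.extPoly P e
  let Θ : AdjoinRoot f →+* K' := AdjoinRoot.lift g l (by
    rw [show f = _ from LambdaLib.extPoly_eq_sum hr, Polynomial.eval₂_finsetSum]
    simp only [Polynomial.eval₂_mul, Polynomial.eval₂_C, Polynomial.eval₂_pow, Polynomial.eval₂_X]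
    exact hrel)
  have hΘof : ∀ c, Θ (AdjoinRoot.of f c) = g c := fun c => AdjoinRoot.lift_of _
  have hΘroot : Θ (AdjoinRoot.root f) = l := AdjoinRoot.lift_root _
  let Ψ : (Fin (r + 1) → K) →+ AdjoinRoot f :=
    AddMonoidHom.mk' (fun a => ∑ i, AdjoinRoot.of f (a i) * AdjoinRoot.root f ^ (i : ℕ)) fun x y => by
      simp only [Pi.add_apply, map_add, add_mul, Finset.sum_add_distrib]
  have hΨmem : ∀ (c : K) (j : ℕ), j ≤ r → AdjoinRoot.of f c * AdjoinRoot.root f ^ j ∈ Ψ.range := fun c j hj =>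
    ⟨Pi.single (M := fun _ : Fin (r + 1) => K) ⟨j, Nat.lt_succ_of_le hj⟩ c, by
      show ∑ i : Fin (r + 1), AdjoinRoot.of f (Pi.single (M := fun _ : Fin (r + 1) => K) ⟨j, Nat.lt_succ_of_le hj⟩ c i) *
        AdjoinRoot.root f ^ (i : ℕ) = _
      rw [Finset.sum_eq_single ⟨j, Nat.lt_succ_of_le hj⟩ (fun i _ hi => by rw [Pi.single_eq_of_ne hi, map_zero, zero_mul])
        (fun h => absurd (Finset.mem_univ _) h), Pi.single_eq_same]⟩
  have hΨsurj : Function.Surjective Ψ := fun z => by
    refine LambdaLib.extFil_induction (motive := fun z => z ∈ Ψ.range) (fun i hi c _ => ?_) (zero_mem _)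
      (fun _ _ => add_mem) (LambdaLib.mem_extFil_zero he hr z)
    rw [pow_sub_one_eq, Finset.mul_sum]
    refine sum_mem fun j hj => ?_
    rw [Finset.mem_range] at hj
    have := hΨmem (c * ((-1 : K) ^ (i - j) * (i.choose j : K))) j (by omega)
    simpa [map_mul, mul_assoc] using this
  have hΘΨ : ∀ b, Θ (Ψ b) = ∑ i : Fin (r + 1), g (b i) * l ^ (i : ℕ) := fun b => by
    show Θ (∑ i : Fin (r + 1), AdjoinRoot.of f (b i) * AdjoinRoot.root f ^ (i : ℕ)) = _
    rw [map_sum]
    exact Finset.sum_congr rfl fun i _ => by rw [map_mul, map_pow, hΘof, hΘroot]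
  have hΘ : Function.Bijective Θ := by
    refine ⟨fun x y hxy => ?_, fun z => ?_⟩
    · obtain ⟨x, rfl⟩ := hΨsurj x
      obtain ⟨y, rfl⟩ := hΨsurj y
      rw [hΘΨ, hΘΨ] at hxy
      rw [hbasis.1 hxy]
    · obtain ⟨b, hb⟩ := hbasis.2 z
      exact ⟨Ψ b, (hΘΨ b).trans hb⟩
  let eΘ : AdjoinRoot f ≃+* K' := RingEquiv.ofBijective Θ hΘ
  letI opsA : LambdaOps (AdjoinRoot f) :=
    { lam := fun i z => eΘ.symm (LambdaOps.lam i (eΘ z))
      lam_zero := fun z => by simp [LambdaOps.lam_zero]
      lam_one := fun z => by simp [LambdaOps.lam_one]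
      lam_add := fun n x y => by rw [map_add, LambdaOps.lam_add, map_sum]; simp }
  let Pe : PosStructure (AdjoinRoot f) :=
    { aug := P'.aug.comp eΘ.toRingHom
      aug_surjective := fun z => ⟨(z : AdjoinRoot f), by simp⟩
      pos := eΘ ⁻¹' P'.pos
      add_mem := fun x y hx hy => by
        show eΘ (x + y) ∈ P'.pos; rw [map_add]; exact P'.add_mem _ _ hx hy
      mul_mem := fun x y hx hy => by
        show eΘ (x * y) ∈ P'.pos; rw [map_mul]; exact P'.mul_mem _ _ hx hy
      natCast_mem := fun n hn => by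
        show eΘ (n : AdjoinRoot f) ∈ P'.pos; rw [map_natCast]; exact P'.natCast_mem n hn
      exists_sub := fun x => by
        obtain ⟨p, q, hp, hq, h⟩ := P'.exists_sub (eΘ x)
        exact ⟨eΘ.symm p, eΘ.symm q, by simpa using hp, by simpa using hq, by rw [← map_sub, ← h, RingEquiv.symm_apply_apply]⟩
      aug_pos := fun x hx => P'.aug_pos _ hx
      lam_eq_zero := fun x hx i hi => by
        show eΘ.symm (LambdaOps.lam i (eΘ x)) = 0
        rw [P'.lam_eq_zero _ hx i hi, map_zero]
      isUnit_lam := fun x hx => (P'.isUnit_lam _ hx).map eΘ.symm }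
  have hlamΘ : ∀ (i : ℕ) (z : AdjoinRoot f), eΘ (LambdaOps.lam i z) = LambdaOps.lam i (eΘ z) := fun i z =>
    eΘ.apply_symm_apply _
  have hext : IsExtension P Pe (AdjoinRoot.of f) :=
    { isLambdaHom := fun i x => by
        show _ = eΘ.symm (LambdaOps.lam i (Θ (AdjoinRoot.of f x)))
        rw [hΘof, ← hl i x, ← hΘof]
        exact (eΘ.symm_apply_apply _).symm
      injective := fun x y hxy => by
        have h := congrArg Θ hxy
        rw [hΘof, hΘof] at h
        have h2 := @hbasis.1 (Pi.single (M := fun _ : Fin (r + 1) => K) 0 x) (Pi.single 0 y) (by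
          have hs : ∀ t : K, (∑ i : Fin (r + 1), g (Pi.single (M := fun _ : Fin (r + 1) => K) 0 t i) * l ^ (i : ℕ)) = g t :=
            fun t => by
            rw [Finset.sum_eq_single 0 (fun i _ hi => by rw [Pi.single_eq_of_ne hi, map_zero, zero_mul])
              (fun h => absurd (Finset.mem_univ _) h), Pi.single_eq_same]
            simp
          exact (hs x).trans (h.trans (hs y).symm))
        simpa using congrFun h2 0
      aug_comp := fun x => by
        show P'.aug (Θ (AdjoinRoot.of f x)) = _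
        rw [hΘof, haug]
      pos_subset := fun x hx => by
        show Θ (AdjoinRoot.of f x) ∈ P'.pos
        rw [hΘof]; exact hpos x hx }
  have hroot : Pe.IsLine (AdjoinRoot.root f) :=
    ⟨show Θ (AdjoinRoot.root f) ∈ P'.pos by rw [hΘroot]; exact hline.1,
      show P'.aug (Θ (AdjoinRoot.root f)) = 1 by rw [hΘroot]; exact hline.2⟩
  have hback : IsExtension P' Pe eΘ.symm.toRingHom :=
    { isLambdaHom := fun i x => by
        show eΘ.symm (LambdaOps.lam i x) = eΘ.symm (LambdaOps.lam i (eΘ (eΘ.symm x)))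
        rw [RingEquiv.apply_symm_apply]
      injective := eΘ.symm.injective
      aug_comp := fun x => congrArg P'.aug (eΘ.apply_symm_apply x)
      pos_subset := fun x hx => by show eΘ (eΘ.symm x) ∈ P'.pos; rw [RingEquiv.apply_symm_apply]; exact hx }
  have hsplitA : HasSplitting (AdjoinRoot f) Pe := by
    obtain ⟨C, hC, hCs⟩ := hsplit
    refine ⟨insert ⟨AdjoinRoot f, Pe⟩ C, Set.mem_insert _ _, fun L hL x hx => ?_⟩
    rcases Set.mem_insert_iff.1 hL with rfl | hL
    · obtain ⟨L', hL', j, hj, s, hs, hsum⟩ := hCs _ hC (eΘ x) hx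
      refine ⟨L', Set.mem_insert_of_mem _ hL', j.comp eΘ.toRingHom,
        ⟨fun i z => ?_, hj.injective.comp eΘ.injective, fun z => hj.aug_comp _, fun z hz => hj.pos_subset _ hz⟩, s, hs, hsum⟩
      show j (eΘ (LambdaOps.lam i z)) = LambdaOps.lam i (j (eΘ z))
      rw [hlamΘ]; exact hj.isLambdaHom i _
    · obtain ⟨L', hL', j, hj⟩ := hCs _ hL x hx
      exact ⟨L', Set.mem_insert_of_mem _ hL', j, hj⟩
  have hmem := map_mem_gammaFiltration hback.isLambdaHom hback.aug_comp hx
  rw [LambdaLib.gammaFiltration_ext_eq hext he hr hroot hsplitA k] at hmem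
  rw [show x = Θ (eΘ.symm.toRingHom x) from (eΘ.apply_symm_apply x).symm]
  exact LambdaLib.extFil_induction
    (motive := fun z => Θ z ∈ AddSubgroup.closure {y | ∃ i, i ≤ r ∧ ∃ a ∈ gammaFiltration P (k - i), g a * (l - 1) ^ i = y})
    (fun i hi c hc => AddSubgroup.subset_closure
      ⟨i, hi, c, hc, by rw [map_mul, map_pow, map_sub, map_one, hΘof, hΘroot]⟩)
    (by simp) (fun a b ha hb => by rw [map_add]; exact add_mem ha hb) hmem

/-- The criterion: `K'` is `K[ℓ]/(p_e)` as a λ-ring with positive structure. -/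
theorem comap_gammaFiltration {e : K} (he : e ∈ P.pos) {r : ℕ} (hr : P.aug e = r + 1) (g : K →+* K') (l : K')
    (hl : IsLambdaHom g) (haug : ∀ x, P'.aug (g x) = P.aug x) (hpos : ∀ x ∈ P.pos, g x ∈ P'.pos)
    (hline : P'.IsLine l) (hrel : ∑ i ∈ range (r + 2), g ((-1 : K) ^ i * LambdaOps.lam i e) * l ^ (r + 1 - i) = 0)
    (hbasis : Function.Bijective fun a : Fin (r + 1) → K => ∑ i : Fin (r + 1), g (a i) * l ^ (i : ℕ))
    (hsplit : HasSplitting K' P') (k : ℕ) : (gammaFiltration P' k).comap g.toAddMonoidHom = gammaFiltration P k := by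
  classical
  refine le_antisymm (fun a ha => ?_) fun a ha => map_mem_gammaFiltration hl haug ha
  replace ha : g a ∈ gammaFiltration P' k := ha
  have hgen := gammaFiltration_le_gen he hr g l hl haug hpos hline hrel hbasis hsplit ha
  -- the coefficient sum retracts the filtration
  let eb := Equiv.ofBijective _ hbasis
  let Φ : (Fin (r + 1) → K) →+ K' :=
    AddMonoidHom.mk' (fun a => ∑ i, g (a i) * l ^ (i : ℕ)) fun x y => by
      simp only [Pi.add_apply, map_add, add_mul, Finset.sum_add_distrib]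
  let eΦ : (Fin (r + 1) → K) ≃+ K' := AddEquiv.ofBijective Φ hbasis
  let R : K' →+ K := (∑ i : Fin (r + 1), Pi.evalAddMonoidHom (fun _ : Fin (r + 1) => K) i).comp eΦ.symm.toAddMonoidHom
  have hR : ∀ (c : K) (j : ℕ), j ≤ r → R (g c * l ^ j) = c := fun c j hj => by
    have hsym : eΦ.symm (g c * l ^ j) = Pi.single (M := fun _ : Fin (r + 1) => K) ⟨j, Nat.lt_succ_of_le hj⟩ c := by
      rw [AddEquiv.symm_apply_eq]
      show _ = ∑ i : Fin (r + 1), g (Pi.single (M := fun _ : Fin (r + 1) => K) ⟨j, Nat.lt_succ_of_le hj⟩ c i) * l ^ (i : ℕ)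
      rw [Finset.sum_eq_single ⟨j, Nat.lt_succ_of_le hj⟩ (fun i _ hi => by rw [Pi.single_eq_of_ne hi, map_zero, zero_mul])
        (fun h => absurd (Finset.mem_univ _) h), Pi.single_eq_same]
    show (∑ i : Fin (r + 1), Pi.evalAddMonoidHom (fun _ : Fin (r + 1) => K) i) (eΦ.symm (g c * l ^ j)) = c
    rw [hsym, AddMonoidHom.finsetSum_apply]
    simp
  suffices key : ∀ z ∈ AddSubgroup.closure {y | ∃ i, i ≤ r ∧ ∃ a ∈ gammaFiltration P (k - i), g a * (l - 1) ^ i = y},
      R z ∈ gammaFiltration P k by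
    have h := key _ hgen
    rwa [show g a = g a * l ^ 0 by rw [pow_zero, mul_one], hR a 0 (Nat.zero_le r)] at h
  intro z hz
  induction hz using AddSubgroup.closure_induction with
  | zero => rw [map_zero]; exact zero_mem _
  | add x y _ _ hx hy => rw [map_add]; exact add_mem hx hy
  | neg x _ hx => rw [map_neg]; exact neg_mem hx
  | mem y hy =>
    obtain ⟨i, hi, c, hc, rfl⟩ := hy
    rw [pow_sub_one_eq, Finset.mul_sum, map_sum]
    have hterm : ∀ j ∈ range (i + 1), R (g c * ((-1 : K') ^ (i - j) * (i.choose j : K') * l ^ j)) =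
        c * ((-1 : K) ^ (i - j) * (i.choose j : K)) := fun j hj => by
      rw [Finset.mem_range] at hj
      rw [← hR (c * ((-1 : K) ^ (i - j) * (i.choose j : K))) j (by omega)]
      simp [map_mul, mul_assoc]
    rw [Finset.sum_congr rfl hterm, ← Finset.mul_sum]
    rcases Nat.eq_zero_or_pos i with rfl | hi0
    · simpa using hc
    · have h0 := pow_sub_one_eq (1 : K) i
      rw [sub_self, zero_pow (by omega)] at h0
      simp only [one_pow, mul_one] at h0
      rw [← h0, mul_zero]
      exact zero_mem _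

end alg

/-- Pullback to a projective bundle detects the γ-filtration. -/
theorem comap_bundle {P T : Scheme.{u}} [IsNoetherian T] [ConnectedSpace ↥T] [IsNoetherian P] [ConnectedSpace ↥P]
    {r : ℕ} {E : T.Modules} (hE : FlatMod.IsFinLocFreeOfRank (r + 1) E) {π : P ⟶ T} {O1 : P.Modules}
    {q : (Scheme.Modules.pullback π).obj E ⟶ O1} (hPB : KRR.IsProjBundle π E O1 q)
    {KT KP : Type (u + 1)} [CommRing KT] [LambdaOps KT] [CommRing KP] [LambdaOps KP] {PT : PosStructure KT}
    {PP : PosStructure KP} {φT : SGA6.Kvb T →+ KT} {φP : SGA6.Kvb P →+ KP}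
    (hT : KRR.IsModel T KT PT φT) (hP : KRR.IsModel P KP PP φP) (g₀ : KT →+ KP) (hg₀ : KRR.IsPull π φT φP g₀) :
    Function.Injective g₀ ∧ ∀ k, (gammaFiltration PP k).comap g₀ = gammaFiltration PT k := by
  classical
  obtain ⟨g, hg, hl, haug, hpos⟩ := exists_pullHom π hP hT
  obtain rfl := isPull_unique π hT.bijective hg₀ hg
  have hb := S3789.result T P r E hE π O1 q hPB KT PT φT hT KP PP φP hP g.toAddMonoidHom hg
  obtain ⟨p, hp⟩ := KPull28.exists_pull π
  refine ⟨injective_of_pulls π hp (injective_pulls_bundle hE hPB hp) hP.bijective hT.bijective hg, fun k => ?_⟩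
  have hline : PP.IsLine (φP (KRR.cl P O1)) :=
    ⟨(hP.mem_pos_iff _).2 ⟨1, _, le_rfl, hPB.invertible, rfl⟩, hP.aug_cl 1 _ hPB.invertible⟩
  refine comap_gammaFiltration (e := φT (KRR.cl T E)) ((hT.mem_pos_iff _).2 ⟨r + 1, E, by omega, hE, rfl⟩)
    (r := r) (by rw [hT.aug_cl _ E hE]; push_cast; rfl) g (φP (KRR.cl P O1)) hl haug hpos hline ?_ hb
    (hasSplitting P KP PP φP hP) k
  haveI := hPB.epi
  have hπE := VarietyLib.isFinLocFreeOfRank_pullback π hE
  have hK := CycLib28.PB.Ops.isFinLocFreeOfRank_kernel_line hπE (KRRPBLib.isInvertible_of_rankOne hPB.invertible) q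
  have hseq : (ShortComplex.mk (kernel.ι q) q (kernel.condition q)).ShortExact :=
    ShortComplex.ShortExact.mk' (ShortComplex.exact_of_f_is_kernel _ (kernelIsKernel _)) inferInstance hPB.epi
  have hcl : g (φT (KRR.cl T E)) = φP (KRR.cl P (kernel q)) + φP (KRR.cl P O1) := by
    rw [← map_add]
    exact (hg E (VarietyLib.isFinLocFree_of_rank hE)).trans (congrArg φP (ExtFilt28.clv_ses hseq
      (VarietyLib.isFinLocFree_of_rank hK) (VarietyLib.isFinLocFree_of_rank hπE)
      (VarietyLib.isFinLocFree_of_rank hPB.invertible)))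
  have htop : LambdaOps.lam (r + 1) (φP (KRR.cl P (kernel q))) = 0 := by
    obtain ⟨M, hM, hp'⟩ := ExtPowEx28.exists_isExtPow (VarietyLib.isFinLocFree_of_rank hK) (r + 1)
    have hr := KPB28.rank_extPow hp' hK
    rw [Nat.choose_eq_zero_of_lt (by omega)] at hr
    rw [hP.map_lam _ _ M (VarietyLib.isFinLocFree_of_rank hK) hM hp', KModel28.cl_isZero (KModel28.isZero_of_rank_zero hr),
      map_zero]
  obtain ⟨h, hh⟩ : ∃ h, h = φP (KRR.cl P (kernel q)) := ⟨_, rfl⟩
  obtain ⟨l, hl'⟩ : ∃ l, l = φP (KRR.cl P O1) := ⟨_, rfl⟩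
  rw [← hh, ← hl'] at hcl
  rw [← hh] at htop
  rw [← hl'] at hline ⊢
  have hstep : ∀ i, LambdaOps.lam (i + 1) (h + l) = LambdaOps.lam (i + 1) h + LambdaOps.lam i h * l := fun i => by
    rw [← LambdaLib.coeff_lamSeries, LambdaLib.lamSeries_add,
      LambdaLib.lamSeries_of_line (LambdaLib.lam_line_eq_zero PP hline), mul_add, mul_one, map_add,
      LambdaLib.coeff_lamSeries, ← mul_assoc, PowerSeries.coeff_succ_mul_X, PowerSeries.coeff_mul_C,
      LambdaLib.coeff_lamSeries]
  have hsum : ∀ n, n ≤ r + 1 → ∑ i ∈ range (n + 1), g ((-1 : KT) ^ i * LambdaOps.lam i (φT (KRR.cl T E))) * l ^ (r + 1 - i) =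
      (-1 : KP) ^ n * LambdaOps.lam n h * l ^ (r + 1 - n) := by
    intro n
    induction n with
    | zero => intro _; simp [LambdaOps.lam_zero]
    | succ n ih =>
      intro hn
      rw [Finset.sum_range_succ, ih (by omega), map_mul, map_pow, map_neg, map_one, hl, hcl, hstep,
        show r + 1 - n = r + 1 - (n + 1) + 1 by omega]
      ring
  rw [hsum (r + 1) le_rfl, htop, mul_zero, zero_mul]

end Groth.Agent.KSplit28
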