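import Groth.Agent.KSplit28.Model
import Groth.Agent.LambdaLib.Adams
import Groth.Agent.S3784

/-!
# Uniqueness of models across universes, and transport of `ψ^j`, `θ^j`
-/

set_option autoImplicit false
set_option linter.style.haveILetI false
set_option backward.isDefEq.respectTransparency false

universe u v w

open CategoryTheory CategoryTheory.Limits AlgebraicGeometry LambdaRing

noncomputable section

namespace Groth.Agent.KSplit28

/-- Two models of `K(X)` are isomorphic λ-rings with augmentation. -/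
theorem exists_iso {X : Scheme.{u}} [ConnectedSpace ↥X] {K : Type v} {K' : Type w} [CommRing K] [LambdaOps K]
    [CommRing K'] [LambdaOps K'] {P : PosStructure K} {P' : PosStructure K'} {φ : SGA6.Kvb X →+ K}
    {φ' : SGA6.Kvb X →+ K'} (h : KRR.IsModel X K P φ) (h' : KRR.IsModel X K' P' φ') :
    ∃ e : K →+* K', Function.Bijective e ∧ (∀ z, e (φ z) = φ' z) ∧
      (∀ (i : ℕ) (x : K), e (LambdaOps.lam i x) = LambdaOps.lam i (e x)) ∧ ∀ x, P'.aug (e x) = P.aug x := by
  obtain ⟨e, he, hl⟩ := exists_ringHom (𝟙 X) (isKRing_of_isModel h') (isKRing_of_isModel h)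
  have hφ : ∀ z, e (φ z) = φ' z := fun z => by
    refine KvbLam28.kvb_induction (P := fun z => e (φ z) = φ' z) (by simp) (fun E hE => ?_)
      (fun a h => by simp [h]) (fun a b ha hb => by simp [ha, hb]) z
    exact (he E hE).trans (congrArg φ' (ExtFilt28.clv_iso ((Scheme.Modules.pullbackId X).app E)))
  refine ⟨e, ⟨fun a b hab => ?_, fun y => ?_⟩, hφ, hl, S3784.aug_pullHom (𝟙 X) h' h e he⟩
  · obtain ⟨a, rfl⟩ := h.bijective.2 a
    obtain ⟨b, rfl⟩ := h.bijective.2 b
    rw [hφ, hφ] at hab
    rw [h'.bijective.1 hab]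
  · obtain ⟨z, rfl⟩ := h'.bijective.2 y
    exact ⟨φ z, hφ z⟩

variable {K : Type v} {K' : Type w} [CommRing K] [LambdaOps K] [CommRing K'] [LambdaOps K'] {P : PosStructure K}
  {P' : PosStructure K'}

theorem map_adams' (f : K →+* K') (hl : ∀ (i : ℕ) (x : K), f (LambdaOps.lam i x) = LambdaOps.lam i (f x))
    (haug : ∀ x, P'.aug (f x) = P.aug x) (j : ℕ) (x : K) : f (adams P j x) = adams P' j (f x) := by
  have h1 : PowerSeries.map f (LambdaLib.lamNeg x) = LambdaLib.lamNeg (f x) := by
    ext i
    simp [LambdaLib.lamNeg, PowerSeries.coeff_rescale, LambdaLib.coeff_lamSeries, hl]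
  show f (PowerSeries.coeff j (adamsSeries P x)) = PowerSeries.coeff j (adamsSeries P' (f x))
  rw [← PowerSeries.coeff_map, LambdaLib.adamsSeries_eq, LambdaLib.adamsSeries_eq, map_sub, map_mul,
    PowerSeries.map_C, PowerSeries.map_X, LambdaLib.map_logD f (LambdaLib.constantCoeff_lamNeg x), h1, haug, map_intCast]

theorem map_bott (f : K →+* K') (hl : ∀ (i : ℕ) (x : K), f (LambdaOps.lam i x) = LambdaOps.lam i (f x))
    (haug : ∀ x, P'.aug (f x) = P.aug x) (j : ℕ) (x : K) : f (KRR.bott P j x) = KRR.bott P' j (f x) := by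
  unfold KRR.bott
  rw [haug x]
  show f.toIntAlgHom (MvPolynomial.aeval _ _) = _
  rw [← AlgHom.comp_apply, MvPolynomial.comp_aeval]
  exact congrArg (fun v => MvPolynomial.aeval v _) (funext fun i => hl _ _)

end Groth.Agent.KSplit28
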