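import Groth.Agent.KSplit28.Elem
import Groth.Agent.KSplit28.ModelIso
import Groth.Agent.KSplit28.PYGamma
import Groth.Agent.CommAlg4.AdamsRR

/-!
# Adams–Riemann–Roch for `P^n_Y ⟶ Y`
-/

set_option autoImplicit false
set_option linter.style.haveILetI false
set_option backward.isDefEq.respectTransparency false

universe u v

open CategoryTheory CategoryTheory.Limits AlgebraicGeometry TopologicalSpace Finset
open Groth.Agent.Coherent LambdaRing
open scoped TensorProduct

noncomputable section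

namespace Groth.Agent.KSplit28

theorem sigma_natCast {K : Type v} [CommRing K] [LambdaOps K]
    (h1 : ∀ k : ℕ, 2 ≤ k → LambdaOps.lam k (1 : K) = 0) (d i : ℕ) :
    KRR.sigma i ((d + 1 : ℕ) : K) = ((d + i).choose d : K) := by
  have hr : PowerSeries.rescale (-1 : K) (lamSeries ((d + 1 : ℕ) : K)) = (1 - PowerSeries.X) ^ (d + 1) := by
    rw [LambdaLib.lamSeries_natCast h1, map_pow, map_add, map_one, PowerSeries.rescale_neg_one_X, sub_eq_add_neg]
  have hmk : (1 - PowerSeries.X) ^ (d + 1) * PowerSeries.mk (fun k => ((d + k).choose d : K)) = 1 := by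
    rw [← PowerSeries.invOneSubPow_val_succ_eq_mk_add_choose, ← PowerSeries.invOneSubPow_inv_eq_one_sub_pow]
    exact (PowerSeries.invOneSubPow K (d + 1)).inv_val
  have hmul : PowerSeries.rescale (-1 : K) (lamSeries ((d + 1 : ℕ) : K)) * KRR.sigmaSeries ((d + 1 : ℕ) : K) = 1 :=
    PowerSeries.mul_invOfUnit _ _ (LambdaLib.constantCoeff_lamNeg _)
  rw [hr] at hmul
  rw [KRR.sigma, left_inv_eq_right_inv ((mul_comm _ _).trans hmk) hmul |>.symm, PowerSeries.coeff_mk]

section bottline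

variable {K : Type v} [CommRing K] [LambdaOps K] {P : PosStructure K}

/-- `θ^j` of a multiple of a line element. -/
theorem bott_natCast_mul_line {t : K} (ht : P.IsLine t) (m j : ℕ) :
    KRR.bott P j ((m : K) * t) = (∑ l ∈ range j, t ^ l) ^ m := by
  have haug : (P.aug ((m : K) * t)).toNat = m := by simp [map_mul, ht.2]
  unfold KRR.bott
  rw [haug, show (∑ l ∈ range j, t ^ l) ^ m = ∏ _b : Fin m, ∑ l ∈ range j, t ^ l by simp,
    ← CommAlg4.AdamsRR.aeval_bottPoly j (fun _ : Fin m => t)]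
  refine congrArg (fun v => MvPolynomial.aeval v _) (funext fun i => ?_)
  rw [show (m : K) * t = ∑ _b : Fin m, t by simp,
    LambdaLib.lam_sum_lines univ (fun _ : Fin m => t) (fun _ _ => LambdaLib.lam_line_eq_zero P ht)]
  simp [MvPolynomial.esymm, map_sum, map_prod]

theorem isUnit_tmul_bott {l t : K} {m j N : ℕ} (ht : P.IsLine t) (hlt : t * l = 1) (hnil : (l - 1) ^ N = 0)
    {Z : Type} [CommRing Z] (hZ : IsUnit (j : Z)) :
    IsUnit ((1 : Z) ⊗ₜ[ℤ] KRR.bott P j ((m : K) * t)) := by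
  have ht1 : IsNilpotent (t - 1) := ⟨N, by
    rw [show t - 1 = -(t * (l - 1)) by rw [mul_sub, hlt, mul_one]; ring, neg_pow, mul_pow, hnil, mul_zero, mul_zero]⟩
  have hs : IsNilpotent ((∑ i ∈ range j, t ^ i) - (j : K)) := by
    rw [show (∑ i ∈ range j, t ^ i) - (j : K) = ∑ i ∈ range j, (t ^ i - 1) by simp [Finset.sum_sub_distrib]]
    refine isNilpotent_sum fun i _ => ?_
    obtain ⟨c, hc⟩ := sub_one_dvd_pow_sub_one t i
    rw [hc]
    exact (Commute.all _ _).isNilpotent_mul_right ht1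
  let ι : K →+* Z ⊗[ℤ] K := (Algebra.TensorProduct.includeRight (R := ℤ) (A := Z) (B := K)).toRingHom
  have hju : IsUnit ((j : Z ⊗[ℤ] K)) := by
    simpa using hZ.map (Algebra.TensorProduct.includeLeftRingHom : Z →+* Z ⊗[ℤ] K)
  have h := (hs.map ι).isUnit_add_left_of_commute hju (Commute.all _ _)
  rw [map_sub, map_natCast, add_sub_cancel] at h
  show IsUnit (ι _)
  rw [bott_natCast_mul_line ht, map_pow]
  exact h.pow m

end bottline

theorem map_lTensor {A B C : Type v} [CommRing A] [CommRing B] [AddCommGroup C] {Z : Type} [CommRing Z]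
    (E : A →+* B) (g : B →+ C) (f : A →+ C) (hf : ∀ a, f a = g (E a)) (x : Z ⊗[ℤ] A) :
    LinearMap.lTensor Z f.toIntLinearMap x =
      LinearMap.lTensor Z g.toIntLinearMap (Algebra.TensorProduct.map (AlgHom.id ℤ Z) E.toIntAlgHom x) := by
  induction x using TensorProduct.induction_on with
  | zero => simp
  | add a b ha hb => simp only [map_add, ha, hb]
  | tmul c d => simp [hf]

/-- The pullback is linear for the push-forward. -/
theorem pushPr_pull_mul (n : ℕ) (Y : Scheme.{u}) [IsNoetherian Y]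
    {KP KY : Type v} [CommRing KP] [LambdaOps KP] [CommRing KY] [LambdaOps KY] {PP : PosStructure KP}
    {PY : PosStructure KY} {φP : SGA6.Kvb (KRR.PY n Y) →+ KP} {φY : SGA6.Kvb Y →+ KY}
    (hP : KRR.IsModel (KRR.PY n Y) KP PP φP) (hY : KRR.IsModel Y KY PY φY) {gp : KP →+ KY}
    (hgp : KRR.IsPushPr n Y φP φY gp) {g : KY →+* KP} (hg : KRR.IsPull (KRR.pr n Y) φY φP g.toAddMonoidHom)
    {l : KP} (hl : ∀ m : ℕ, φP (KRR.cl _ (Twist.twistOver n Y (m : ℤ))) = l ^ m)
    (hbasis : Function.Bijective fun a : Fin (n + 1) → KY => ∑ i : Fin (n + 1), g (a i) * l ^ (i : ℕ)) :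
    (∀ (a : KY) (m : ℕ), gp (g a * l ^ m) = ((n + m).choose m : KY) * a) ∧
      ∀ (c : KY) (x : KP), gp (g c * x) = c * gp x := by
  have h1 : ∀ (a : KY) (m : ℕ), gp (g a * l ^ m) = ((n + m).choose m : KY) * a := by
    intro a m
    refine (isKRing_of_isModel hY).induction (motive := fun a => gp (g a * l ^ m) = ((n + m).choose m : KY) * a)
      (by simp) (fun V hV => ?_) (fun a h => by simp [h]) (fun a b ha hb => by simp [add_mul, mul_add, ha, hb]) a
    rw [show g (φY (KRR.cl Y V)) = _ from hg V hV, mul_comm (φP _) (l ^ m), ← hl,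
      hP.map_mul _ _ (KPr28.isFinLocFree_twistOver _) (DCat.PullPerf.isFinLocFree_pullback _ hV)]
    have hreg := KPr28.regP_twPull (n := n) (Y := Y) hV (Int.natCast_nonneg m)
    refine (hgp _ hreg.1 hreg.2).trans ?_
    rw [KPr28.push_twPull hV, map_zsmul, zsmul_eq_mul]
    push_cast; rfl
  refine ⟨h1, fun c x => ?_⟩
  obtain ⟨a, rfl⟩ := hbasis.2 x
  simp only [Finset.mul_sum, map_sum]
  refine Finset.sum_congr rfl fun i _ => ?_
  rw [← mul_assoc, ← map_mul, h1, h1]
  ring

theorem adams_core (n : ℕ) (Y : Scheme.{u}) [IsNoetherian Y] [ConnectedSpace ↥Y]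
    {KP KY : Type (u + 1)} [CommRing KP] [LambdaOps KP] [CommRing KY] [LambdaOps KY] {PP : PosStructure KP}
    {PY : PosStructure KY} {φP : SGA6.Kvb (KRR.PY n Y) →+ KP} {φY : SGA6.Kvb Y →+ KY}
    (hP : KRR.IsModel (KRR.PY n Y) KP PP φP) (hY : KRR.IsModel Y KY PY φY) {gp : KP →+ KY}
    (hgp : KRR.IsPushPr n Y φP φY gp) (j : ℕ) (hj : 1 ≤ j) {Z : Type} [CommRing Z] (hZ : IsUnit (j : Z)) [Module.Flat ℤ Z]
    (z : KP) :
    (∃ w : Z ⊗[ℤ] KP, w * ((1 : Z) ⊗ₜ[ℤ] KRR.bott PP j
      (φP (KRR.cl (KRR.PY n Y)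
        (KRR.twF n Y (-1) ((Scheme.Modules.pullback (KRR.pr n Y)).obj (FlatMod.freeMod Y (n + 1))))))) = 1) ∧
    ∀ w : Z ⊗[ℤ] KP, w * ((1 : Z) ⊗ₜ[ℤ] KRR.bott PP j
      (φP (KRR.cl (KRR.PY n Y)
        (KRR.twF n Y (-1) ((Scheme.Modules.pullback (KRR.pr n Y)).obj (FlatMod.freeMod Y (n + 1))))))) = 1 →
    (1 : Z) ⊗ₜ[ℤ] adams PY j (gp z) =
      LinearMap.lTensor Z gp.toIntLinearMap
        ((j : Z ⊗[ℤ] KP) * ((1 : Z) ⊗ₜ[ℤ] adams PP j z) * w) := by
  haveI := connectedSpace_PY n Y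
  haveI : IsNoetherian (KRR.PY n Y) := by
    haveI := RelVALib.isProper_toBase n Y
    haveI : IsLocallyNoetherian (KRR.PY n Y) := LocallyOfFiniteType.isLocallyNoetherian (KRR.pr n Y)
    haveI : CompactSpace ↥(KRR.PY n Y) := QuasiCompact.compactSpace_of_compactSpace (KRR.pr n Y)
    exact { }
  obtain ⟨g, l, e', hg, -, -, hgl, hgaug, hgpos, hline, hpow, -, hbasis⟩ := exists_PY_data n Y hP hY
  obtain ⟨hgp1, hgplin⟩ := pushPr_pull_mul n Y hP hY hgp hg hpow hbasis
  have hK := hasSplitting Y KY PY φY hY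
  have hKP := hasSplitting (KRR.PY n Y) KP PP φP hP
  have h1 : ∀ k : ℕ, 2 ≤ k → LambdaOps.lam k (1 : KY) = 0 := fun k hk => lam_one_eq_zero (isKRing_of_isModel hY) hk
  let e : KY := ((n + 1 : ℕ) : KY)
  have he : e ∈ PY.pos := PY.natCast_mem _ (Nat.succ_pos n)
  have hr : PY.aug e = (n : ℕ) + 1 := by simp [e]
  -- the relation
  have hrel : ∑ i ∈ range (n + 2), g ((-1 : KY) ^ i * LambdaOps.lam i e) * l ^ (n + 1 - i) = (l - 1) ^ (n + 1) := by
    rw [sub_eq_neg_add, add_pow]
    refine Finset.sum_congr rfl fun i _ => ?_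
    rw [LambdaLib.lam_natCast h1, map_mul, map_pow, map_neg, map_one, map_natCast]
    ring
  have hnil : (l - 1) ^ (n + 1) = 0 := by
    have hO : FlatMod.IsFinLocFree (Coh.structureModule (KRR.PY n Y)) := Coherent.CohBC.isFinLocFree_structureModule _
    rw [← hrel]
    have h := congrArg φP (KPr28.rel_vb (n := n) (Y := Y) hO 0)
    rw [map_zero, map_sum] at h
    refine Eq.trans (Finset.sum_congr rfl fun p hp => ?_) h
    rw [Finset.mem_range] at hp
    rw [LambdaLib.lam_natCast h1, map_mul, map_pow, map_neg, map_one, map_natCast, map_zsmul,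
      zsmul_eq_mul]
    obtain ⟨z⟩ := KPr28.nonempty_twF_structure (n := n) (Y := Y) ((0 : ℤ) + (n + 1) - p)
    dsimp only
    rw [show KRR.cl _ (KRR.twF n Y ((0 : ℤ) + (n + 1) - p) (Coh.structureModule _)) =
        KRR.cl _ (Twist.twistOver n Y ((0 : ℤ) + (n + 1) - p)) from
      ExtFilt28.clv_iso z, show (0 : ℤ) + (n + 1) - p = ((n + 1 - p : ℕ) : ℤ) by omega, hpow]
    push_cast
    ring
  -- the inverse twist
  let t : KP := φP (KRR.cl _ (Twist.twistOver n Y (-1)))
  have htT : FlatMod.IsFinLocFreeOfRank 1 (Twist.twistOver n Y (-1)) :=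
    PicLib.isFinLocFreeOfRank_one (CM28.isInvertible_twistOver n Y (-1))
  have htline : PP.IsLine t := ⟨(hP.mem_pos_iff _).2 ⟨1, _, le_rfl, htT, rfl⟩, hP.aug_cl 1 _ htT⟩
  have htl : t * l = 1 := by
    have h := hpow 1
    rw [pow_one] at h
    rw [← h, hP.map_mul _ _ (KPr28.isFinLocFree_twistOver _) (KPr28.isFinLocFree_twistOver _), ← hP.map_one]
    obtain ⟨a⟩ := CM28.nonempty_twistOver_add n Y (show (-1 : ℤ) + ((1 : ℕ) : ℤ) = 0 by norm_num)
    obtain ⟨b⟩ := CM28.nonempty_twistOver_zero n Y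
    exact congrArg φP ((ExtFilt28.clv_iso a).trans (ExtFilt28.clv_iso b))
  have hq : φP (KRR.cl (KRR.PY n Y)
      (KRR.twF n Y (-1) ((Scheme.Modules.pullback (KRR.pr n Y)).obj (FlatMod.freeMod Y (n + 1))))) =
      ((n + 1 : ℕ) : KP) * t := by
    have hF := FlatMor12.FlatFun.isFinLocFree_freeMod Y (n + 1)
    show φP (KRR.cl _ (((DCoh.tensorBi (X := KRR.PY n Y)).obj (Twist.twistOver n Y (-1))).obj
      ((Scheme.Modules.pullback (KRR.pr n Y)).obj (FlatMod.freeMod Y (n + 1))))) = _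
    rw [← hP.map_mul _ _ (KPr28.isFinLocFree_twistOver _) (DCat.PullPerf.isFinLocFree_pullback _ hF), mul_comm,
      ← (hg _ hF : g (φY _) = _), KPr28.cl_freeMod, map_zsmul, hY.map_one]
    simp [t]
  rw [hq]
  refine ⟨(isUnit_tmul_bott htline htl hnil hZ).exists_left_inv, fun w hw => ?_⟩
  obtain ⟨_, Pe, E, hext, hroot, hsplit, hEof, hEroot, hElam, hEaug⟩ :=
    exists_elementary (P := PY) (P' := PP) he hr g l hgl hgaug hgpos hline (hrel.trans hnil) hbasis hKP
  let tA := E.symm t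
  have htA : tA * AdjoinRoot.root (KRR.extPoly PY e) = 1 := E.injective (by simp [tA, hEroot, htl])
  let T := Algebra.TensorProduct.map (AlgHom.id ℤ Z) E.toRingHom.toIntAlgHom
  let T' := Algebra.TensorProduct.map (AlgHom.id ℤ Z) E.symm.toRingHom.toIntAlgHom
  have hTT : ∀ x, T (T' x) = x := fun x => by
    induction x using TensorProduct.induction_on with
    | zero => simp
    | add a b ha hb => simp only [map_add, ha, hb]
    | tmul c d => simp [T, T']
  let f : AdjoinRoot (KRR.extPoly PY e) →ₗ[KY] KY :=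
    { toFun := fun x => gp (E x)
      map_add' := fun x y => by simp
      map_smul' := fun c x => by
        rw [Algebra.smul_def, AdjoinRoot.algebraMap_eq, map_mul, hEof, hgplin]; rfl }
  have hf : ∀ i : ℕ, i ≤ n → f (AdjoinRoot.root (KRR.extPoly PY e) ^ i) = KRR.sigma i e := fun i _ => by
    show gp (E _) = _
    rw [map_pow, hEroot, sigma_natCast h1, show l ^ i = g 1 * l ^ i by simp, hgp1, mul_one]
    congr 1
    exact (Nat.choose_symm_add).symm
  have hbott : E (KRR.bott Pe j (AdjoinRoot.of (KRR.extPoly PY e) e * tA)) = KRR.bott PP j (((n + 1 : ℕ) : KP) * t) := by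
    refine (map_bott (P' := PP) E.toRingHom hElam hEaug j _).trans ?_
    congr 1
    simp [tA, e]
  have hwA : T' w * ((1 : Z) ⊗ₜ[ℤ]
      KRR.bott Pe j (AdjoinRoot.of (KRR.extPoly PY e) e * tA)) = 1 := by
    have h := congrArg T' hw
    rw [map_mul, map_one] at h
    rw [← hbott] at h
    simpa [T'] using h
  have key := CommAlg4.AdamsRR.adams_riemann_roch hK he hr hext hroot hsplit hj hZ f hf htA (T' w) hwA (E.symm z)
  rw [show f (E.symm z) = gp z from congrArg gp (E.apply_symm_apply z),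
    map_lTensor E.toRingHom gp f.toAddMonoidHom (fun a => rfl)] at key
  rw [key]
  congr 1
  have had : E (adams Pe j (E.symm z)) = adams PP j z := by
    refine (map_adams' (P' := PP) E.toRingHom hElam hEaug j _).trans ?_
    simp
  show T _ = _
  rw [map_mul, map_mul, map_natCast, hTT, mul_right_comm]
  congr 1
  simp [T, had]

end Groth.Agent.KSplit28
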