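import Groth.Agent.KSplit28.Gamma
import Groth.Agent.KSplit28.ModelIso
import Groth.Agent.Coherent.Serre.AmpleAffine
import Groth.Agent.Coherent.CohBC.HomSheaf
import Groth.Agent.Coherent.CohBC.TwistBC
import Groth.Agent.KPr28.Twists

/-!
# The augmentation ideal of `K(X)` is nil when `X` has an ample module

A globally generated bundle of rank `r + 1` gives `(T - 1)^N` as a multiple of its polynomial `p_e`
(pull back to `P(E)`, where `O(1)` is globally generated), so `[E] - (r + 1)` lies in every prime.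
-/

set_option autoImplicit false
set_option linter.style.haveILetI false
set_option backward.isDefEq.respectTransparency false

universe u v

open CategoryTheory CategoryTheory.Limits AlgebraicGeometry TopologicalSpace Finset
open Groth.Agent.Coherent LambdaRing

noncomputable section

namespace Groth.Agent.KSplit28

section alg

variable {K : Type v} {K' : Type v} [CommRing K] [LambdaOps K] [CommRing K'] {P : PosStructure K}

theorem extPoly_monic [Nontrivial K] {e : K} {r : ℕ} (hr : P.aug e = r + 1) :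
    (KRR.extPoly P e).Monic ∧ (KRR.extPoly P e).natDegree = r + 1 := by
  obtain ⟨rest, hrest, hsplit⟩ : ∃ rest : Polynomial K, rest.degree < ((r + 1 : ℕ) : WithBot ℕ) ∧
      KRR.extPoly P e = Polynomial.X ^ (r + 1) + rest := by
    refine ⟨∑ i ∈ range (r + 1), Polynomial.C ((-1 : K) ^ (i + 1) * LambdaOps.lam (i + 1) e) *
      Polynomial.X ^ (r + 1 - (i + 1)), ?_, ?_⟩
    · refine (Polynomial.degree_sum_le _ _).trans_lt ((Finset.sup_lt_iff (WithBot.bot_lt_coe _)).2 fun i hi => ?_)
      refine (Polynomial.degree_C_mul_X_pow_le _ _).trans_lt ?_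
      rw [Finset.mem_range] at hi
      exact Nat.cast_lt.2 (by omega)
    · rw [LambdaLib.extPoly_eq_sum hr, Finset.sum_range_succ' _ (r + 1), add_comm]
      simp [LambdaOps.lam_zero]
  rw [hsplit]
  refine ⟨Polynomial.monic_X_pow_add hrest, ?_⟩
  refine Polynomial.natDegree_eq_of_degree_eq_some ?_
  rw [Polynomial.degree_add_eq_left_of_degree_lt (by rwa [Polynomial.degree_X_pow]), Polynomial.degree_X_pow]

/-- If `p_e` divides `(T - 1)^N` then `e - ε(e)` is nilpotent. -/
theorem isNilpotent_of_dvd {e : K} {r N : ℕ} (hr : P.aug e = r + 1)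
    (hdvd : KRR.extPoly P e ∣ (Polynomial.X - 1) ^ N) : IsNilpotent (e - ((r + 1 : ℕ) : K)) := by
  classical
  rcases subsingleton_or_nontrivial K with hK | hK
  · exact ⟨1, Subsingleton.elim _ _⟩
  obtain ⟨hmon, hdeg⟩ := extPoly_monic (P := P) hr
  rw [nilpotent_iff_mem_prime]
  intro p hp
  haveI := hp
  let ψ : K →+* FractionRing (K ⧸ p) := (algebraMap (K ⧸ p) (FractionRing (K ⧸ p))).comp (Ideal.Quotient.mk p)
  have hker : ∀ x, ψ x = 0 → x ∈ p := fun x hx =>
    Ideal.Quotient.eq_zero_iff_mem.1 (IsFractionRing.injective (K ⧸ p) (FractionRing (K ⧸ p)) (by rwa [map_zero]))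
  refine hker _ ?_
  have h := Polynomial.map_dvd ψ hdvd
  rw [Polynomial.map_pow, Polynomial.map_sub, Polynomial.map_X, Polynomial.map_one,
    show (1 : Polynomial (FractionRing (K ⧸ p))) = Polynomial.C 1 from Polynomial.C_1.symm] at h
  obtain ⟨i, -, hi⟩ := (dvd_prime_pow (Polynomial.prime_X_sub_C _) N).1 h
  have heq := Polynomial.eq_of_monic_of_associated (hmon.map ψ) ((Polynomial.monic_X_sub_C _).pow i) hi
  have hi' : i = r + 1 := by
    have := congrArg Polynomial.natDegree heq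
    rwa [hmon.natDegree_map ψ, hdeg, Polynomial.natDegree_pow, Polynomial.natDegree_X_sub_C, mul_one, eq_comm] at this
  subst hi'
  have hc := congrArg (fun q => Polynomial.coeff q r) heq
  simp only [Polynomial.coeff_map] at hc
  rw [sub_eq_add_neg, ← map_neg, Polynomial.coeff_X_add_C_pow, LambdaLib.extPoly_eq_sum hr,
    Polynomial.finsetSum_coeff, Finset.sum_eq_single 1] at hc
  · simp [LambdaOps.lam_one] at hc
    rw [map_sub, map_natCast, sub_eq_zero]
    push_cast
    linear_combination (-1 : FractionRing (K ⧸ p)) * hc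
  · intro b hb hb1
    rw [Polynomial.coeff_C_mul_X_pow, if_neg (by rw [Finset.mem_range] at hb; omega)]
  · intro h1; simp at h1

/-- With `1, l, …, l^r` a basis, a polynomial vanishing at `l` is a multiple of `p_e`. -/
theorem extPoly_dvd_of_eval {e : K} {r : ℕ} (hr : P.aug e = r + 1) (g : K →+* K') (l : K')
    (hrel : ∑ i ∈ range (r + 2), g ((-1 : K) ^ i * LambdaOps.lam i e) * l ^ (r + 1 - i) = 0)
    (hbasis : Function.Injective fun a : Fin (r + 1) → K => ∑ i : Fin (r + 1), g (a i) * l ^ (i : ℕ))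
    (q : Polynomial K) (hq : q.eval₂ g l = 0) : KRR.extPoly P e ∣ q := by
  rcases subsingleton_or_nontrivial K with hK | hK
  · exact ⟨0, Subsingleton.elim _ _⟩
  obtain ⟨hmon, hdeg⟩ := extPoly_monic (P := P) hr
  have hf : (KRR.extPoly P e).eval₂ g l = 0 := by
    rw [LambdaLib.extPoly_eq_sum hr, Polynomial.eval₂_finsetSum]
    simp only [Polynomial.eval₂_mul, Polynomial.eval₂_C, Polynomial.eval₂_pow, Polynomial.eval₂_X]
    exact hrel
  have h := Polynomial.modByMonic_add_div q (KRR.extPoly P e)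
  have h0 : (q %ₘ KRR.extPoly P e).eval₂ g l = 0 := by
    have := congrArg (Polynomial.eval₂ g l) h
    rwa [Polynomial.eval₂_add, Polynomial.eval₂_mul, hf, zero_mul, add_zero, hq] at this
  have hlt : (q %ₘ KRR.extPoly P e).natDegree < r + 1 := by
    rw [← hdeg]
    exact Polynomial.natDegree_modByMonic_lt _ hmon (by intro h; rw [h, Polynomial.natDegree_one] at hdeg; omega)
  rw [← Polynomial.modByMonic_eq_zero_iff_dvd hmon]
  have hz := @hbasis (fun i => (q %ₘ KRR.extPoly P e).coeff i) 0 (by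
    simp only [Pi.zero_apply, map_zero, zero_mul, Finset.sum_const_zero]
    rw [← h0, Polynomial.eval₂_eq_sum_range' g hlt, Finset.sum_range])
  ext k
  rw [Polynomial.coeff_zero]
  rcases lt_or_ge k (r + 1) with hk | hk
  · exact congrFun hz ⟨k, hk⟩
  · exact Polynomial.coeff_eq_zero_of_natDegree_lt (by omega)

end alg

/-- `P(E)` over a connected quasi-compact base: connected, quasi-compact, and `K(P(E)) = K(T)[l]/(p_e)`. -/
theorem exists_bundle_data {P T : Scheme.{u}} [CompactSpace T] [ConnectedSpace ↥T] {r : ℕ} {E : T.Modules}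
    (hE : FlatMod.IsFinLocFreeOfRank (r + 1) E) {π : P ⟶ T} {O1 : P.Modules}
    {q : (Scheme.Modules.pullback π).obj E ⟶ O1} (hPB : KRR.IsProjBundle π E O1 q)
    {KT : Type (u + 1)} [CommRing KT] [LambdaOps KT] {PT : PosStructure KT} {φT : SGA6.Kvb T →+ KT}
    (hT : KRR.IsModel T KT PT φT) :
    ConnectedSpace ↥P ∧ CompactSpace ↥P ∧ ∃ (KP : Type (u + 1)) (_ : CommRing KP) (_ : LambdaOps KP)
      (PP : PosStructure KP) (φP : SGA6.Kvb P →+ KP) (g : KT →+* KP), KRR.IsModel P KP PP φP ∧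
        KRR.IsPull π φT φP g.toAddMonoidHom ∧
        ∑ i ∈ range (r + 2), g ((-1 : KT) ^ i * LambdaOps.lam i (φT (KRR.cl T E))) *
          φP (KRR.cl P O1) ^ (r + 1 - i) = 0 ∧
        Function.Bijective fun a : Fin (r + 1) → KT => ∑ i : Fin (r + 1), g (a i) * φP (KRR.cl P O1) ^ (i : ℕ) := by
  classical
  have hloc := KPB28.locPn_of_isProjBundle hE hPB
  haveI := connectedSpace hloc
  refine ⟨inferInstance, compactSpace hloc, ?_⟩
  obtain ⟨KP, _, _, PP, φP, hKP⟩ := KModel28.exists_model P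
  obtain ⟨g, hg, hl, -, -⟩ := exists_pullHom π hKP hT
  refine ⟨KP, _, _, PP, φP, g, hKP, hg, ?_, ?_⟩
  · have hline : PP.IsLine (φP (KRR.cl P O1)) :=
      ⟨(hKP.mem_pos_iff _).2 ⟨1, _, le_rfl, hPB.invertible, rfl⟩, hKP.aug_cl 1 _ hPB.invertible⟩
    haveI := hPB.epi
    have hπE := VarietyLib.isFinLocFreeOfRank_pullback π hE
    have hK := CycLib28.PB.Ops.isFinLocFreeOfRank_kernel_line hπE (KRRPBLib.isInvertible_of_rankOne hPB.invertible) q
    have hseq : (ShortComplex.mk (kernel.ι q) q (kernel.condition q)).ShortExact :=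
      ShortComplex.ShortExact.mk' (ShortComplex.exact_of_f_is_kernel _ (kernelIsKernel _)) inferInstance hPB.epi
    have hcl : g (φT (KRR.cl T E)) = φP (KRR.cl P (kernel q)) + φP (KRR.cl P O1) := by
      rw [← map_add]
      exact (hg E (VarietyLib.isFinLocFree_of_rank hE)).trans (congrArg φP (ExtFilt28.clv_ses hseq
        (VarietyLib.isFinLocFree_of_rank hK) (VarietyLib.isFinLocFree_of_rank hπE)
        (VarietyLib.isFinLocFree_of_rank hPB.invertible)))
    have hmem : φP (KRR.cl P (kernel q)) = 0 ∨ φP (KRR.cl P (kernel q)) ∈ PP.pos := by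
      rcases Nat.eq_zero_or_pos r with rfl | hr
      · left; rw [KModel28.cl_isZero (KModel28.isZero_of_rank_zero hK), map_zero]
      · exact Or.inr ((hKP.mem_pos_iff _).2 ⟨r, _, hr, hK, rfl⟩)
    have htop : LambdaOps.lam (r + 1) (φP (KRR.cl P (kernel q))) = 0 := by
      rcases hmem with h | h
      · rw [h, LambdaLib.lam_apply_zero _ (by omega)]
      · exact PP.lam_eq_zero _ h _ (by rw [hKP.aug_cl r _ hK]; omega)
    obtain ⟨h, hh⟩ : ∃ h, h = φP (KRR.cl P (kernel q)) := ⟨_, rfl⟩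
    obtain ⟨l, hl'⟩ : ∃ l, l = φP (KRR.cl P O1) := ⟨_, rfl⟩
    rw [← hh, ← hl'] at hcl
    rw [← hh] at htop
    rw [← hl'] at hline ⊢
    have hstep : ∀ i, LambdaOps.lam (i + 1) (h + l) = LambdaOps.lam (i + 1) h + LambdaOps.lam i h * l := fun i => by
      rw [← LambdaLib.coeff_lamSeries, LambdaLib.lamSeries_add,
        LambdaLib.lamSeries_of_line (LambdaLib.lam_line_eq_zero PP hline), mul_add, mul_one, map_add,
        LambdaLib.coeff_lamSeries, ← mul_assoc, PowerSeries.coeff_succ_mul_X, PowerSeries.coeff_mul_C,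
        LambdaLib.coeff_lamSeries]
    have hsum : ∀ n, n ≤ r + 1 → ∑ i ∈ range (n + 1), g ((-1 : KT) ^ i * LambdaOps.lam i (φT (KRR.cl T E))) *
        l ^ (r + 1 - i) = (-1 : KP) ^ n * LambdaOps.lam n h * l ^ (r + 1 - n) := by
      intro n
      induction n with
      | zero => intro _; simp [LambdaOps.lam_zero]
      | succ n ih =>
        intro hn
        rw [Finset.sum_range_succ, ih (by omega), map_mul, map_pow, map_neg, map_one, hl, hcl, hstep,
          show r + 1 - n = r + 1 - (n + 1) + 1 by omega]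
        ring
    rw [hsum (r + 1) le_rfl, htop, mul_zero, zero_mul]
  · obtain ⟨N, ⟨eN⟩⟩ := VarietyLib.exists_isInverseOf (KRRPBLib.isInvertible_of_rankOne hPB.invertible)
    have hinv : ClSub.IsInverseOf N O1 := ⟨AmpleLib.tensorComm _ _ ≪≫ eN⟩
    have hL : PicF.IsInvertible O1 := KRRPBLib.isInvertible_of_rankOne hPB.invertible
    let eP : SGA6.Kvb P ≃+ KP := AddEquiv.ofBijective φP hKP.bijective
    let eX : SGA6.Kvb T ≃+ KT := AddEquiv.ofBijective φT hT.bijective
    have hpow : ∀ k : ℕ, φP (KRR.cl P O1) ^ k = φP (KRR.cl P (CohB1.tensorPow O1 k)) := by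
      intro k
      induction k with
      | zero => rw [pow_zero]; exact hKP.map_one.symm
      | succ k ih =>
        rw [pow_succ, ih]
        exact hKP.map_mul _ _ (Coherent.isFinLocFree_of_invertible (AmpleLib.isInvertible_tensorPow hL k))
          (Coherent.isFinLocFree_of_invertible hL)
    let A : Fin (r + 1) → (SGA6.Kvb T →+ SGA6.Kvb P) := fun i => eP.symm.toAddMonoidHom.comp
      ((AddMonoidHom.mulRight (φP (KRR.cl P O1) ^ ((Fin.rev i : Fin (r + 1)) : ℕ))).comp (g.toAddMonoidHom.comp φT))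
    have hb := KPB28.bijective_powers hE hPB hinv (r : ℤ) A fun i V hV => by
      show eP.symm (g (φT (KRR.cl T V)) * φP (KRR.cl P O1) ^ _) = _
      rw [show g (φT (KRR.cl T V)) = _ from hg V hV, hpow, AddEquiv.symm_apply_eq]
      refine (hKP.map_mul _ _ (DCat.PullPerf.isFinLocFree_pullback π hV)
        (Coherent.isFinLocFree_of_invertible (AmpleLib.isInvertible_tensorPow hL _))).trans ?_
      have hr : ((Fin.rev i : Fin (r + 1)) : ℕ) = r - (i : ℕ) := by rw [Fin.val_rev]; omega
      obtain ⟨e⟩ := KPB28.nonempty_OP_nat (Li := N) hL (r - (i : ℕ))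
      refine congrArg φP (ExtFilt28.clv_iso (AmpleLib.tensorComm _ _ ≪≫
        AmpleLib.tensorIso (eqToIso (congrArg (CohB1.tensorPow O1) hr) ≪≫ e.symm ≪≫
          eqToIso (congrArg (KPB28.OP O1 N) (by have := i.isLt; omega))) (Iso.refl _)))
    let σ : (Fin (r + 1) → KT) → (Fin (r + 1) → SGA6.Kvb T) := fun a i => eX.symm (a (Fin.rev i))
    have hσ : Function.Bijective σ :=
      Function.bijective_iff_has_inverse.2 ⟨fun b i => eX (b (Fin.rev i)),
        fun a => funext fun i => by simp [σ], fun b => funext fun i => by simp [σ]⟩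
    have heq : (fun a : Fin (r + 1) → KT => ∑ i : Fin (r + 1), g (a i) * φP (KRR.cl P O1) ^ (i : ℕ)) =
        (fun b => eP b) ∘ (fun x : Fin (r + 1) → SGA6.Kvb T => ∑ i, A i (x i)) ∘ σ := by
      funext a
      simp only [Function.comp_apply, map_sum]
      refine (Fintype.sum_equiv Fin.revPerm _ _ fun i => ?_).symm
      show eP (eP.symm (g (φT (eX.symm (a (Fin.rev i)))) * _)) = _
      rw [AddEquiv.apply_symm_apply, show φT (eX.symm (a (Fin.rev i))) = a (Fin.rev i) from eX.apply_symm_apply _]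
      rfl
    rw [heq]
    exact eP.bijective.comp (hb.comp hσ)

variable {X : Scheme.{u}} {K : Type (u + 1)} [CommRing K] [LambdaOps K] {P : PosStructure K} {φ : SGA6.Kvb X →+ K}

/-- A line bundle with `N + 1` generating sections. -/
theorem line_sub_one_pow [CompactSpace X] [ConnectedSpace ↥X] (hX : KRR.IsModel X K P φ) {L : X.Modules}
    (hL : FlatMod.IsFinLocFreeOfRank 1 L) {N : ℕ} (σ : FlatMod.freeMod X (N + 1) ⟶ L) [Epi σ] :
    (φ (KRR.cl X L) - 1) ^ (N + 1) = 0 := by
  classical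
  have hF : FlatMod.IsFinLocFreeOfRank (N + 1) (FlatMod.freeMod X (N + 1)) :=
    fun _ => ⟨⊤, trivial, ⟨(Scheme.Modules.restrictFunctorIsoPullback (⊤ : X.Opens).ι).app _ ≪≫
      (DCat.PerfTensor.nonempty_pullback_free (⊤ : X.Opens).ι (N + 1)).some⟩⟩
  obtain ⟨Pb, π, O1, q, hPB, -⟩ := CycLib28.PB.exists_projBundle hF
  obtain ⟨hPc, hPq, KP, _, _, PP, φP, g, hKP, hg, hrel, -⟩ := exists_bundle_data hF hPB hX
  haveI := hPc
  obtain ⟨s, ⟨hs, e, -⟩, -⟩ := hPB.univ X (𝟙 X) L hL ((Scheme.Modules.pullbackId X).hom.app _ ≫ σ) inferInstance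
  obtain ⟨h, hh, -, -, -⟩ := exists_pullHom s hX hKP
  have hl : φ (KRR.cl X L) = h (φP (KRR.cl Pb O1)) := by
    rw [show h (φP (KRR.cl Pb O1)) = _ from hh O1 (VarietyLib.isFinLocFree_of_rank hPB.invertible)]
    exact congrArg φ (ExtFilt28.clv_iso e.symm)
  have hcl : φ (KRR.cl X (FlatMod.freeMod X (N + 1))) = ((N + 1 : ℕ) : K) := by
    rw [KPr28.cl_freeMod, map_zsmul, hX.map_one]; simp
  rw [hl, ← map_one h, ← map_sub, ← map_pow]
  refine (congrArg h ?_).trans (map_zero h)
  rw [← hrel, hcl, sub_eq_neg_add, add_pow]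
  refine Finset.sum_congr rfl fun i _ => ?_
  rw [LambdaLib.lam_natCast (fun k hk => lam_one_eq_zero (isKRing_of_isModel hX) hk), map_mul, map_pow, map_neg,
    map_one, map_natCast]
  ring

/-- Generated by finitely many sections. -/
def Gg (E : X.Modules) : Prop := ∃ (N : ℕ) (σ : FlatMod.freeMod X (N + 1) ⟶ E), Epi σ

/-- A generated bundle. -/
theorem isNilpotent_cl_sub_rank_of_gg [CompactSpace X] [ConnectedSpace ↥X] (hX : KRR.IsModel X K P φ) {r : ℕ}
    {E : X.Modules} (hE : FlatMod.IsFinLocFreeOfRank (r + 1) E) (hg : Gg E) :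
    IsNilpotent (φ (KRR.cl X E) - ((r + 1 : ℕ) : K)) := by
  classical
  obtain ⟨Pb, π, O1, q, hPB, -⟩ := CycLib28.PB.exists_projBundle hE
  obtain ⟨hPc, hPq, KP, _, _, PP, φP, g, hKP, hgp, hrel, hbasis⟩ := exists_bundle_data hE hPB hX
  haveI := hPc
  haveI := hPq
  haveI := hPB.epi
  obtain ⟨N, σ, hσ⟩ := hg
  let σ' : FlatMod.freeMod Pb (N + 1) ⟶ O1 :=
    (DCat.PerfTensor.nonempty_pullback_free π (N + 1)).some.inv ≫ (Scheme.Modules.pullback π).map σ ≫ q
  haveI : (Scheme.Modules.pullback π).IsLeftAdjoint := (Scheme.Modules.pullbackPushforwardAdjunction π).isLeftAdjoint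
  haveI : Epi ((Scheme.Modules.pullback π).map σ) := (Scheme.Modules.pullback π).map_epi σ
  haveI : Epi σ' := inferInstance
  have hnil := line_sub_one_pow hKP hPB.invertible σ'
  have haug : P.aug (φ (KRR.cl X E)) = r + 1 := by rw [hX.aug_cl _ E hE]; push_cast; rfl
  exact isNilpotent_of_dvd haug (extPoly_dvd_of_eval haug g _ hrel hbasis.1 ((Polynomial.X - 1) ^ (N + 1))
    (by simpa [Polynomial.eval₂_pow, Polynomial.eval₂_sub] using hnil))

/-- Every class minus its rank is nilpotent. -/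
theorem isNilpotent_sub_aug [ConnectedSpace ↥X] {L : X.Modules} (hL : CohB1.IsAmple L)
    (hX : KRR.IsModel X K P φ) (x : K) : IsNilpotent (x - (P.aug x : K)) := by
  classical
  haveI := hL.2.1
  refine (isKRing_of_isModel hX).induction (motive := fun x => IsNilpotent (x - (P.aug x : K))) (by simp)
    (fun E hE => ?_) (fun a h => by simpa [neg_add_eq_sub] using h.neg) (fun a b ha hb => by
      rw [map_add, Int.cast_add, show a + b - ((P.aug a : K) + (P.aug b : K)) = (a - P.aug a) + (b - P.aug b) by ring]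
      exact (Commute.all _ _).isNilpotent_add ha hb) x
  obtain ⟨r, hr⟩ := KModel28.exists_rank hE
  rw [hX.aug_cl r E hr, Int.cast_natCast]
  rcases Nat.eq_zero_or_pos r with rfl | hpos
  · rw [KModel28.cl_isZero (KModel28.isZero_of_rank_zero hr), map_zero]; simp
  obtain ⟨r, rfl⟩ : ∃ s, r = s + 1 := ⟨r - 1, by omega⟩
  have hgen : ∀ F : X.Modules, FlatMod.IsFinLocFree F → ∃ N₀ : ℕ, ∀ n, N₀ ≤ n →
      Gg (CohB1.tensorMod F (CohB1.tensorPow L n)) := fun F hF => by
    obtain ⟨N₀, h⟩ := Coherent.Serre.exists_epi_free_twist hL F (Coherent.CohBC.isCoh_of_isFinLocFree hF)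
    refine ⟨N₀, fun n hn => ?_⟩
    obtain ⟨I, _, σ, hσ⟩ := h n hn
    let σ₁ : Coherent.freeMod X (Option I) ⟶ CohB1.tensorMod F (CohB1.tensorPow L n) :=
      Coherent.freeDesc fun i => i.elim 0 fun j => Coherent.freeInj j ≫ σ
    have : Coherent.freeDesc (fun j => Coherent.freeInj (some j : Option I)) ≫ σ₁ = σ :=
      Coherent.freeMod_hom_ext fun j => by
        rw [← Category.assoc, Coherent.freeInj_freeDesc, Coherent.freeInj_freeDesc]; rfl
    haveI : Epi σ₁ := epi_of_epi_fac this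
    let e : Coherent.freeMod X (Option I) ≅ FlatMod.freeMod X (Fintype.card I + 1) :=
      Coherent.CohBC.freeModReindex ((Fintype.equivFinOfCardEq Fintype.card_option).trans Equiv.ulift.symm) ≪≫
        Props12.freeModIso X _
    exact ⟨_, e.inv ≫ σ₁, inferInstance⟩
  obtain ⟨N₁, h₁⟩ := hgen E hE
  obtain ⟨N₂, h₂⟩ := hgen (Coh.structureModule X) KvbLam28.isFinLocFree_structure
  let A := CohB1.tensorPow L (max N₁ N₂)
  have hA : PicF.IsInvertible A := AmpleLib.isInvertible_tensorPow hL.1 _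
  have hA1 := PicLib.isFinLocFreeOfRank_one hA
  have hAf := VarietyLib.isFinLocFree_of_rank hA1
  have hEA : φ (KRR.cl X (CohB1.tensorMod E A)) = φ (KRR.cl X E) * φ (KRR.cl X A) :=
    (hX.map_mul E A hE hAf).symm
  obtain ⟨n', hn'⟩ := KModel28.exists_rank (ExtFilt28.isFinLocFree_tensor hE hAf)
  have haugA : P.aug (φ (KRR.cl X A)) = 1 := by rw [hX.aug_cl 1 A hA1]; rfl
  have hn'' : n' = r + 1 := by
    have h := congrArg P.aug hEA
    rw [hX.aug_cl n' _ hn', map_mul, hX.aug_cl _ E hr, haugA, mul_one] at h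
    exact_mod_cast h
  subst hn''
  have hE' := isNilpotent_cl_sub_rank_of_gg hX hn' (h₁ _ (le_max_left _ _))
  rw [hEA] at hE'
  have hA' : IsNilpotent (φ (KRR.cl X A) - 1) := by
    obtain ⟨M, τ, hτ⟩ := h₂ (max N₁ N₂) (le_max_right _ _)
    let τ' : FlatMod.freeMod X (M + 1) ⟶ A := τ ≫ (AmpleLib.unitTensorIso A).hom
    haveI : Epi τ' := inferInstance
    exact ⟨M + 1, line_sub_one_pow hX hA1 τ'⟩
  have hline : P.IsLine (φ (KRR.cl X A)) := ⟨(hX.mem_pos_iff _).2 ⟨1, A, le_rfl, hA1, rfl⟩, haugA⟩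
  obtain ⟨a', ha'⟩ := (LambdaLib.isUnit_of_isLine P hline).exists_right_inv
  rw [show φ (KRR.cl X E) - ((r + 1 : ℕ) : K) = a' * ((φ (KRR.cl X E) * φ (KRR.cl X A) - ((r + 1 : ℕ) : K)) -
    ((r + 1 : ℕ) : K) * (φ (KRR.cl X A) - 1)) by linear_combination (((r + 1 : ℕ) : K) - φ (KRR.cl X E)) * ha']
  exact (Commute.all _ _).isNilpotent_mul_left
    ((Commute.all _ _).isNilpotent_sub hE' ((Commute.all _ _).isNilpotent_mul_left hA'))

end Groth.Agent.KSplit28
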