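import Groth.Agent.KPB28.Loc
import Groth.Agent.CurveLib.ProjLine
import Groth.Agent.Coherent.ProjSpaceBase
import Groth.Agent.KPr28.OpenBC
import Mathlib.AlgebraicGeometry.Geometrically.Connected

/-!
# Connectedness of projective bundles
-/

set_option autoImplicit false
set_option linter.style.haveILetI false
set_option backward.isDefEq.respectTransparency false

universe u

open CategoryTheory CategoryTheory.Limits AlgebraicGeometry TopologicalSpace

noncomputable section

namespace Groth.Agent.KSplit28

theorem geometricallyConnected_toSpec (n : ℕ) (R : Type u) [CommRing R] :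
    GeometricallyConnected (CohB1.ProjSpace.toSpec n R) := by
  rw [geometricallyConnected_iff, geometrically]
  intro L _ t Y a b hP
  letI : Algebra R L := (Spec.preimage t).hom.toAlgebra
  have ht : Spec.map (CommRingCat.ofHom (algebraMap R L)) = t := Spec.map_preimage t
  have h' := Coherent.isPullback_projSpace n R L
  rw [ht] at h'
  haveI := CurveLib.isIntegral_projSpace L n
  haveI : ConnectedSpace (CohB1.ProjSpace n L) := inferInstance
  haveI : ConnectedSpace (Proj (CohB1.polyGrading n L)) := this
  exact (h'.isoIsPullback _ _ hP).hom.surjective.connectedSpace (h'.isoIsPullback _ _ hP).hom.continuous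

theorem geometricallyConnected_pr (n : ℕ) (S : Scheme.{u}) : GeometricallyConnected (KRR.pr n S) := by
  unfold KRR.pr CohB1.ProjSpaceOver.toBase
  exact MorphismProperty.pullback_snd _ _ (geometricallyConnected_toSpec n (ULift.{u} ℤ))

variable {P T : Scheme.{u}} {r : ℕ} {π : P ⟶ T} {L : P.Modules}

/-- The fibres are connected. -/
theorem isConnected_fibre (H : KPB28.LocPn r π L) (t : T) : _root_.IsConnected (π.base ⁻¹' {t}) := by
  obtain ⟨V, φ, ψ, hφ, hV, hsq, ⟨v, hv⟩, -⟩ := H.chart t
  haveI := KPr28.isOpenImmersion_of_sq hsq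
  haveI := geometricallyConnected_pr r V
  have hfib := ((KRR.pr r V).isConnected_preimage_singleton v).image ψ.base ψ.continuous.continuousOn
  refine (congrArg _root_.IsConnected ?_).mp hfib
  ext y
  constructor
  · rintro ⟨x, hx, rfl⟩
    show π.base (ψ.base x) = t
    rw [← Scheme.Hom.comp_apply, hsq.w, Scheme.Hom.comp_apply, show (KRR.pr r V).base x = v from hx]
    exact hv
  · intro hy
    have hy' : y ∈ π ⁻¹ᵁ (φ ''ᵁ ⊤) := ⟨v, trivial, hv.trans (Eq.symm hy)⟩
    rw [← KPr28.image_preimage_of_sq hsq] at hy'
    obtain ⟨x, -, rfl⟩ := hy'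
    refine ⟨x, φ.isOpenEmbedding.injective ?_, rfl⟩
    show φ.base ((KRR.pr r V).base x) = φ.base v
    rw [← Scheme.Hom.comp_apply, ← hsq.w, Scheme.Hom.comp_apply]
    exact hy.trans hv.symm

/-- A projective bundle over a connected base is connected. -/
theorem connectedSpace (H : KPB28.LocPn r π L) [ConnectedSpace T] : ConnectedSpace P := by
  haveI := H.isProper
  have hsurj : Function.Surjective π.base := fun t => (isConnected_fibre H t).nonempty.imp fun _ h => h
  haveI : Nonempty P := ⟨(hsurj (Classical.arbitrary T)).choose⟩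
  haveI : PreconnectedSpace P := by
    refine preconnectedSpace_iff_clopen.2 fun W hW => ?_
    have key : ∀ t : T, π.base ⁻¹' {t} ⊆ W ∨ π.base ⁻¹' {t} ⊆ Wᶜ := fun t => by
      by_cases hd : (π.base ⁻¹' {t} ∩ W).Nonempty
      · exact Or.inl ((isConnected_fibre H t).isPreconnected.subset_isClopen hW hd)
      · exact Or.inr fun y hy hyW => hd ⟨y, hy, hyW⟩
    have hcl : IsClopen (π.base '' W) := by
      refine ⟨π.isClosedMap _ hW.1, ?_⟩
      have hc : (π.base '' W)ᶜ = π.base '' Wᶜ := by
        ext t
        constructor
        · intro ht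
          obtain ⟨y, rfl⟩ := hsurj t
          exact ⟨y, fun hyW => ht ⟨y, hyW, rfl⟩, rfl⟩
        · rintro ⟨y, hy, rfl⟩ ⟨z, hz, hzy⟩
          rcases key (π.base y) with h | h
          · exact hy (h rfl)
          · exact h (show z ∈ π.base ⁻¹' {π.base y} from hzy) hz
      rw [← isClosed_compl_iff, hc]
      exact π.isClosedMap _ hW.compl.1
    rcases isClopen_iff.1 hcl with h | h
    · exact Or.inl (Set.image_eq_empty.1 h)
    · refine Or.inr (Set.eq_univ_of_forall fun y => ?_)
      obtain ⟨z, hz, hzy⟩ := (h.symm ▸ Set.mem_univ (π.base y) : π.base y ∈ π.base '' W)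
      rcases key (π.base y) with h' | h'
      · exact h' rfl
      · exact absurd hz (h' (show z ∈ π.base ⁻¹' {π.base y} from hzy))
  exact ⟨inferInstance⟩

theorem compactSpace (H : KPB28.LocPn r π L) [CompactSpace T] : CompactSpace P :=
  haveI := H.quasiCompact
  QuasiCompact.compactSpace_of_compactSpace π

theorem isNoetherian (H : KPB28.LocPn r π L) [IsNoetherian T] : IsNoetherian P := by
  haveI := H.isProper
  haveI : IsLocallyNoetherian P := LocallyOfFiniteType.isLocallyNoetherian π
  haveI := compactSpace H
  exact { }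

end Groth.Agent.KSplit28
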