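import Groth.Agent.KPB28.Main
import Groth.Agent.KSplit28.Geo
import Groth.Agent.CycLib28.PB.Exists
import Groth.Agent.KModel28.Basic

/-!
# The splitting principle for `K` of vector bundles
-/

set_option autoImplicit false
set_option linter.style.haveILetI false
set_option backward.isDefEq.respectTransparency false

universe u

open CategoryTheory CategoryTheory.Limits AlgebraicGeometry TopologicalSpace
open Groth.Agent.Coherent

noncomputable section

namespace Groth.Agent.KSplit28

/-- `q` is the pullback along `f` on classes of bundles. -/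
def Pulls {S' S : Scheme.{u}} (f : S' ⟶ S) (q : SGA6.Kvb S →+ SGA6.Kvb S') : Prop :=
  ∀ E : S.Modules, FlatMod.IsFinLocFree E → q (KRR.cl S E) = KRR.cl S' ((Scheme.Modules.pullback f).obj E)

theorem pulls_unique {S' S : Scheme.{u}} {f : S' ⟶ S} {q q' : SGA6.Kvb S →+ SGA6.Kvb S'}
    (h : Pulls f q) (h' : Pulls f q') : q = q' := by
  refine AddMonoidHom.ext fun x => ?_
  refine KvbLam28.kvb_induction (P := fun x => q x = q' x) ?_ ?_ ?_ ?_ x
  · simp
  · intro E hE; rw [h E hE, h' E hE]
  · intro a h; rw [map_neg, map_neg, h]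
  · intro a b ha hb; rw [map_add, map_add, ha, hb]

theorem pulls_id (S : Scheme.{u}) : Pulls (𝟙 S) (AddMonoidHom.id _) := fun E _ =>
  ExtFilt28.clv_iso ((Scheme.Modules.pullbackId S).app E).symm

theorem pulls_comp {S'' S' S : Scheme.{u}} {g : S'' ⟶ S'} {f : S' ⟶ S} {p : SGA6.Kvb S' →+ SGA6.Kvb S''}
    {q : SGA6.Kvb S →+ SGA6.Kvb S'} (hp : Pulls g p) (hq : Pulls f q) : Pulls (g ≫ f) (p.comp q) := fun E hE => by
  show p (q (KRR.cl S E)) = _
  rw [hq E hE, hp _ (DCat.PullPerf.isFinLocFree_pullback f hE)]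
  exact ExtFilt28.clv_iso ((Scheme.Modules.pullbackComp g f).app E)

/-- Pullback to a projective bundle is injective on `K`. -/
theorem injective_pulls_bundle {P T : Scheme.{u}} [CompactSpace T] {r : ℕ} {E : T.Modules}
    (hE : FlatMod.IsFinLocFreeOfRank (r + 1) E) {π : P ⟶ T} {O1 : P.Modules}
    {q : (Scheme.Modules.pullback π).obj E ⟶ O1} (hPB : KRR.IsProjBundle π E O1 q)
    {p : SGA6.Kvb T →+ SGA6.Kvb P} (hp : Pulls π p) : Function.Injective p := by
  classical
  have hL := KRRPBLib.isInvertible_of_rankOne hPB.invertible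
  obtain ⟨N, ⟨eN⟩⟩ := VarietyLib.exists_isInverseOf hL
  have hinv : ClSub.IsInverseOf N O1 := ⟨AmpleLib.tensorComm _ _ ≪≫ eN⟩
  have H := KPB28.ctx_of_isProjBundle hE hPB hinv
  have hA : ∀ d : ℤ, ∃ A : SGA6.Kvb T →+ SGA6.Kvb P, ∀ V : T.Modules, FlatMod.IsFinLocFree V →
      A (KRR.cl T V) = KRR.cl P (KPB28.tw O1 N d ((Scheme.Modules.pullback π).obj V)) := fun d =>
    KvbLam28.exists_lift (X := T) (fun V => KRR.cl P (KPB28.tw O1 N d ((Scheme.Modules.pullback π).obj V)))
      fun S hS h₁ h₂ h₃ => by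
        obtain ⟨S', hS', x₁, x₂, x₃⟩ := H.tw_ses (KPull28.shortExact_pullback π hS h₃) d
        have hh := ExtFilt28.clv_ses hS'
          (x₁ ▸ H.isFinLocFree_tw (DCat.PullPerf.isFinLocFree_pullback π h₁) d)
          (x₂ ▸ H.isFinLocFree_tw (DCat.PullPerf.isFinLocFree_pullback π h₂) d)
          (x₃ ▸ H.isFinLocFree_tw (DCat.PullPerf.isFinLocFree_pullback π h₃) d)
        rw [x₁, x₂, x₃] at hh
        exact hh
  choose A hA using hA
  have hb := KPB28.bijective_powers hE hPB hinv 0 (fun i : Fin (r + 1) => A (0 - (i : ℕ))) (fun i => hA _)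
  have hA0 : A 0 = p := by
    refine AddMonoidHom.ext fun x => ?_
    refine KvbLam28.kvb_induction (P := fun x => A 0 x = p x) ?_ ?_ ?_ ?_ x
    · simp
    · intro V hV
      obtain ⟨e⟩ := H.tw_zero ((Scheme.Modules.pullback π).obj V)
      rw [hA 0 V hV, hp V hV]
      exact ExtFilt28.clv_iso e
    · intro a h; rw [map_neg, map_neg, h]
    · intro a b ha hb; rw [map_add, map_add, ha, hb]
  intro a b hab
  have hs : ∀ x, ∑ i : Fin (r + 1), A (0 - (i : ℕ)) (Pi.single (M := fun _ : Fin (r + 1) => SGA6.Kvb T) 0 x i) = p x := by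
    intro x
    rw [Finset.sum_eq_single 0 (fun j _ hj => by rw [Pi.single_eq_of_ne hj, map_zero])
      (fun h => absurd (Finset.mem_univ _) h), Pi.single_eq_same]
    simp [hA0]
  have h := @hb.1 (Pi.single (M := fun _ : Fin (r + 1) => SGA6.Kvb T) 0 a) (Pi.single 0 b)
    (((hs a).trans hab).trans (hs b).symm)
  simpa using congrFun h 0

/-- The splitting principle, along morphisms of a prescribed kind. -/
theorem exists_split (Base : Scheme.{u} → Prop) (Good : ∀ {A B : Scheme.{u}}, (A ⟶ B) → Prop)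
    (hid : ∀ {A : Scheme.{u}}, Base A → Good (𝟙 A))
    (hcomp : ∀ {A B C : Scheme.{u}} {g : A ⟶ B} {f : B ⟶ C}, Base B → Base C → Good g → Good f → Good (g ≫ f))
    (hbundle : ∀ {P T : Scheme.{u}} {r : ℕ} {E : T.Modules} {π : P ⟶ T} {O1 : P.Modules}
      {q : (Scheme.Modules.pullback π).obj E ⟶ O1}, Base T → FlatMod.IsFinLocFreeOfRank (r + 1) E →
      KRR.IsProjBundle π E O1 q → Base P ∧ Good π) :
    ∀ (n : ℕ) {S : Scheme.{u}}, Base S → ∀ E : S.Modules, FlatMod.IsFinLocFreeOfRank n E →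
      ∃ (S' : Scheme.{u}) (f : S' ⟶ S), Base S' ∧ Good f ∧ ∃ L : Fin n → S'.Modules,
        (∀ j, FlatMod.IsFinLocFreeOfRank 1 (L j)) ∧
          KRR.cl S' ((Scheme.Modules.pullback f).obj E) = ∑ j, KRR.cl S' (L j) := by
  intro n
  induction n with
  | zero =>
    intro S hS E hE
    exact ⟨S, 𝟙 S, hS, hid hS, fun j => j.elim0, fun j => j.elim0, by
      rw [Finset.univ_eq_empty, Finset.sum_empty]
      exact KModel28.cl_isZero ((Scheme.Modules.pullback _).map_isZero (KModel28.isZero_of_rank_zero hE))⟩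
  | succ n ih =>
    intro S hS E hE
    obtain ⟨P, π, O1, q, hPB, -⟩ := CycLib28.PB.exists_projBundle hE
    obtain ⟨hP, hπ⟩ := hbundle hS hE hPB
    haveI := hPB.epi
    have hπE := VarietyLib.isFinLocFreeOfRank_pullback π hE
    have hK := CycLib28.PB.Ops.isFinLocFreeOfRank_kernel_line hπE (KRRPBLib.isInvertible_of_rankOne hPB.invertible) q
    obtain ⟨S', g, hS', hg, L, hL, hsum⟩ := ih hP (kernel q) hK
    have hseq : (ShortComplex.mk (kernel.ι q) q (kernel.condition q)).ShortExact :=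
      ShortComplex.ShortExact.mk' (ShortComplex.exact_of_f_is_kernel _ (kernelIsKernel _)) inferInstance hPB.epi
    have hses := KPull28.shortExact_pullback g hseq (VarietyLib.isFinLocFree_of_rank hPB.invertible)
    refine ⟨S', g ≫ π, hS', hcomp hP hS hg hπ, Fin.snoc L ((Scheme.Modules.pullback g).obj O1), fun j => ?_, ?_⟩
    · refine Fin.lastCases ?_ (fun i => ?_) j
      · rw [Fin.snoc_last]; exact VarietyLib.isFinLocFreeOfRank_pullback g hPB.invertible
      · rw [Fin.snoc_castSucc]; exact hL i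
    · rw [Fin.sum_univ_castSucc]
      simp only [Fin.snoc_castSucc, Fin.snoc_last, ← hsum]
      exact ((ExtFilt28.clv_iso ((Scheme.Modules.pullbackComp g π).app E)).symm).trans
        (ExtFilt28.clv_ses hses (DCat.PullPerf.isFinLocFree_pullback g (VarietyLib.isFinLocFree_of_rank hK))
          (DCat.PullPerf.isFinLocFree_pullback g (VarietyLib.isFinLocFree_of_rank hπE))
          (DCat.PullPerf.isFinLocFree_pullback g (VarietyLib.isFinLocFree_of_rank hPB.invertible)))

end Groth.Agent.KSplit28
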