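import Groth.Agent.KSplit28.Gamma

/-!
# A free basis of powers of a line element gives an elementary extension
-/

set_option autoImplicit false
set_option linter.style.haveILetI false
set_option backward.isDefEq.respectTransparency false

universe v

open Finset LambdaRing

noncomputable section

namespace Groth.Agent.KSplit28

variable {K K' : Type v} [CommRing K] [LambdaOps K] [CommRing K'] [LambdaOps K'] {P : PosStructure K}
  {P' : PosStructure K'}

/-- `K'` is `K[ℓ]/(p_e)` as a λ-ring with positive structure. -/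
theorem exists_elementary {e : K} (he : e ∈ P.pos) {r : ℕ} (hr : P.aug e = r + 1) (g : K →+* K') (l : K')
    (hl : IsLambdaHom g) (haug : ∀ x, P'.aug (g x) = P.aug x) (hpos : ∀ x ∈ P.pos, g x ∈ P'.pos)
    (hline : P'.IsLine l) (hrel : ∑ i ∈ range (r + 2), g ((-1 : K) ^ i * LambdaOps.lam i e) * l ^ (r + 1 - i) = 0)
    (hbasis : Function.Bijective fun a : Fin (r + 1) → K => ∑ i : Fin (r + 1), g (a i) * l ^ (i : ℕ))
    (hsplit : HasSplitting K' P') :
    ∃ (_ : LambdaOps (AdjoinRoot (KRR.extPoly P e))) (Pe : PosStructure (AdjoinRoot (KRR.extPoly P e)))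
      (E : AdjoinRoot (KRR.extPoly P e) ≃+* K'),
      IsExtension P Pe (AdjoinRoot.of (KRR.extPoly P e)) ∧ Pe.IsLine (AdjoinRoot.root (KRR.extPoly P e)) ∧
      HasSplitting _ Pe ∧ (∀ c, E (AdjoinRoot.of (KRR.extPoly P e) c) = g c) ∧
      E (AdjoinRoot.root (KRR.extPoly P e)) = l ∧ (∀ i z, E (LambdaOps.lam i z) = LambdaOps.lam i (E z)) ∧
      ∀ z, P'.aug (E z) = Pe.aug z := by
  classical
  let f := KRR.extPoly P e
  let Θ : AdjoinRoot f →+* K' := AdjoinRoot.lift g l (by
    rw [show f = _ from LambdaLib.extPoly_eq_sum hr, Polynomial.eval₂_finsetSum]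
    simp only [Polynomial.eval₂_mul, Polynomial.eval₂_C, Polynomial.eval₂_pow, Polynomial.eval₂_X]
    exact hrel)
  have hΘof : ∀ c, Θ (AdjoinRoot.of f c) = g c := fun c => AdjoinRoot.lift_of _
  have hΘroot : Θ (AdjoinRoot.root f) = l := AdjoinRoot.lift_root _
  let Ψ : (Fin (r + 1) → K) →+ AdjoinRoot f :=
    AddMonoidHom.mk' (fun a => ∑ i, AdjoinRoot.of f (a i) * AdjoinRoot.root f ^ (i : ℕ)) fun x y => by
      simp only [Pi.add_apply, map_add, add_mul, Finset.sum_add_distrib]
  have hΨmem : ∀ (c : K) (j : ℕ), j ≤ r → AdjoinRoot.of f c * AdjoinRoot.root f ^ j ∈ Ψ.range := fun c j hj =>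
    ⟨Pi.single (M := fun _ : Fin (r + 1) => K) ⟨j, Nat.lt_succ_of_le hj⟩ c, by
      show ∑ i : Fin (r + 1), AdjoinRoot.of f (Pi.single (M := fun _ : Fin (r + 1) => K) ⟨j, Nat.lt_succ_of_le hj⟩ c i) *
        AdjoinRoot.root f ^ (i : ℕ) = _
      rw [Finset.sum_eq_single ⟨j, Nat.lt_succ_of_le hj⟩ (fun i _ hi => by rw [Pi.single_eq_of_ne hi, map_zero, zero_mul])
        (fun h => absurd (Finset.mem_univ _) h), Pi.single_eq_same]⟩
  have hΨsurj : Function.Surjective Ψ := fun z => by
    refine LambdaLib.extFil_induction (motive := fun z => z ∈ Ψ.range) (fun i hi c _ => ?_) (zero_mem _)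
      (fun _ _ => add_mem) (LambdaLib.mem_extFil_zero he hr z)
    rw [pow_sub_one_eq, Finset.mul_sum]
    refine sum_mem fun j hj => ?_
    rw [Finset.mem_range] at hj
    have := hΨmem (c * ((-1 : K) ^ (i - j) * (i.choose j : K))) j (by omega)
    simpa [map_mul, mul_assoc] using this
  have hΘΨ : ∀ b, Θ (Ψ b) = ∑ i : Fin (r + 1), g (b i) * l ^ (i : ℕ) := fun b => by
    show Θ (∑ i : Fin (r + 1), AdjoinRoot.of f (b i) * AdjoinRoot.root f ^ (i : ℕ)) = _
    rw [map_sum]
    exact Finset.sum_congr rfl fun i _ => by rw [map_mul, map_pow, hΘof, hΘroot]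
  have hΘ : Function.Bijective Θ := by
    refine ⟨fun x y hxy => ?_, fun z => ?_⟩
    · obtain ⟨x, rfl⟩ := hΨsurj x
      obtain ⟨y, rfl⟩ := hΨsurj y
      rw [hΘΨ, hΘΨ] at hxy
      rw [hbasis.1 hxy]
    · obtain ⟨b, hb⟩ := hbasis.2 z
      exact ⟨Ψ b, (hΘΨ b).trans hb⟩
  let eΘ : AdjoinRoot f ≃+* K' := RingEquiv.ofBijective Θ hΘ
  letI opsA : LambdaOps (AdjoinRoot f) :=
    { lam := fun i z => eΘ.symm (LambdaOps.lam i (eΘ z))
      lam_zero := fun z => by simp [LambdaOps.lam_zero]
      lam_one := fun z => by simp [LambdaOps.lam_one]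
      lam_add := fun n x y => by rw [map_add, LambdaOps.lam_add, map_sum]; simp }
  let Pe : PosStructure (AdjoinRoot f) :=
    { aug := P'.aug.comp eΘ.toRingHom
      aug_surjective := fun z => ⟨(z : AdjoinRoot f), by simp⟩
      pos := eΘ ⁻¹' P'.pos
      add_mem := fun x y hx hy => by
        show eΘ (x + y) ∈ P'.pos; rw [map_add]; exact P'.add_mem _ _ hx hy
      mul_mem := fun x y hx hy => by
        show eΘ (x * y) ∈ P'.pos; rw [map_mul]; exact P'.mul_mem _ _ hx hy
      natCast_mem := fun n hn => by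
        show eΘ (n : AdjoinRoot f) ∈ P'.pos; rw [map_natCast]; exact P'.natCast_mem n hn
      exists_sub := fun x => by
        obtain ⟨p, q, hp, hq, h⟩ := P'.exists_sub (eΘ x)
        exact ⟨eΘ.symm p, eΘ.symm q, by simpa using hp, by simpa using hq, by rw [← map_sub, ← h, RingEquiv.symm_apply_apply]⟩
      aug_pos := fun x hx => P'.aug_pos _ hx
      lam_eq_zero := fun x hx i hi => by
        show eΘ.symm (LambdaOps.lam i (eΘ x)) = 0
        rw [P'.lam_eq_zero _ hx i hi, map_zero]
      isUnit_lam := fun x hx => (P'.isUnit_lam _ hx).map eΘ.symm }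
  have hlamΘ : ∀ (i : ℕ) (z : AdjoinRoot f), eΘ (LambdaOps.lam i z) = LambdaOps.lam i (eΘ z) := fun i z =>
    eΘ.apply_symm_apply _
  have hext : IsExtension P Pe (AdjoinRoot.of f) :=
    { isLambdaHom := fun i x => by
        show _ = eΘ.symm (LambdaOps.lam i (Θ (AdjoinRoot.of f x)))
        rw [hΘof, ← hl i x, ← hΘof]
        exact (eΘ.symm_apply_apply _).symm
      injective := fun x y hxy => by
        have h := congrArg Θ hxy
        rw [hΘof, hΘof] at h
        have h2 := @hbasis.1 (Pi.single (M := fun _ : Fin (r + 1) => K) 0 x) (Pi.single 0 y) (by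
          have hs : ∀ t : K, (∑ i : Fin (r + 1), g (Pi.single (M := fun _ : Fin (r + 1) => K) 0 t i) * l ^ (i : ℕ)) = g t :=
            fun t => by
            rw [Finset.sum_eq_single 0 (fun i _ hi => by rw [Pi.single_eq_of_ne hi, map_zero, zero_mul])
              (fun h => absurd (Finset.mem_univ _) h), Pi.single_eq_same]
            simp
          exact (hs x).trans (h.trans (hs y).symm))
        simpa using congrFun h2 0
      aug_comp := fun x => by
        show P'.aug (Θ (AdjoinRoot.of f x)) = _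
        rw [hΘof, haug]
      pos_subset := fun x hx => by
        show Θ (AdjoinRoot.of f x) ∈ P'.pos
        rw [hΘof]; exact hpos x hx }
  have hroot : Pe.IsLine (AdjoinRoot.root f) :=
    ⟨show Θ (AdjoinRoot.root f) ∈ P'.pos by rw [hΘroot]; exact hline.1,
      show P'.aug (Θ (AdjoinRoot.root f)) = 1 by rw [hΘroot]; exact hline.2⟩
  have hback : IsExtension P' Pe eΘ.symm.toRingHom :=
    { isLambdaHom := fun i x => by
        show eΘ.symm (LambdaOps.lam i x) = eΘ.symm (LambdaOps.lam i (eΘ (eΘ.symm x)))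
        rw [RingEquiv.apply_symm_apply]
      injective := eΘ.symm.injective
      aug_comp := fun x => congrArg P'.aug (eΘ.apply_symm_apply x)
      pos_subset := fun x hx => by show eΘ (eΘ.symm x) ∈ P'.pos; rw [RingEquiv.apply_symm_apply]; exact hx }
  have hsplitA : HasSplitting (AdjoinRoot f) Pe := by
    obtain ⟨C, hC, hCs⟩ := hsplit
    refine ⟨insert ⟨AdjoinRoot f, Pe⟩ C, Set.mem_insert _ _, fun L hL x hx => ?_⟩
    rcases Set.mem_insert_iff.1 hL with rfl | hL
    · obtain ⟨L', hL', j, hj, s, hs, hsum⟩ := hCs _ hC (eΘ x) hx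
      refine ⟨L', Set.mem_insert_of_mem _ hL', j.comp eΘ.toRingHom,
        ⟨fun i z => ?_, hj.injective.comp eΘ.injective, fun z => hj.aug_comp _, fun z hz => hj.pos_subset _ hz⟩, s, hs, hsum⟩
      show j (eΘ (LambdaOps.lam i z)) = LambdaOps.lam i (j (eΘ z))
      rw [hlamΘ]; exact hj.isLambdaHom i _
    · obtain ⟨L', hL', j, hj⟩ := hCs _ hL x hx
      exact ⟨L', Set.mem_insert_of_mem _ hL', j, hj⟩
  exact ⟨opsA, Pe, eΘ, hext, hroot, hsplitA, hΘof, hΘroot, hlamΘ, fun z => rfl⟩

end Groth.Agent.KSplit28
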