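import Groth.Agent.KSplit28.Basic
import Groth.Agent.KSplit28.Rank
import Groth.Agent.KSplit28.Lam
import Groth.Agent.LambdaLib.LineGen

/-!
# `K` of bundles on a quasi-compact scheme is a special λ-ring
-/

set_option autoImplicit false
set_option linter.style.haveILetI false
set_option backward.isDefEq.respectTransparency false

universe u v

open CategoryTheory CategoryTheory.Limits AlgebraicGeometry TopologicalSpace
open Groth.Agent.Coherent LambdaRing

noncomputable section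

namespace Groth.Agent.KSplit28

/-- Classes of bundles of rank at most one. -/
def lineSet (X : Scheme.{u}) : Set (SGA6.Kvb X) := {x | ∃ M : X.Modules, RankIn 0 1 M ∧ KRR.cl X M = x}

theorem pulls_closure {X Y : Scheme.{u}} {f : X ⟶ Y} {q : SGA6.Kvb Y →+ SGA6.Kvb X} (hq : Pulls f q)
    {x : SGA6.Kvb Y} (hx : x ∈ AddSubgroup.closure (lineSet Y)) : q x ∈ AddSubgroup.closure (lineSet X) := by
  induction hx using AddSubgroup.closure_induction with
  | mem x hx =>
    obtain ⟨M, hM, rfl⟩ := hx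
    exact AddSubgroup.subset_closure ⟨_, hM.pullback f, (hq M hM.isFinLocFree).symm⟩
  | zero => rw [map_zero]; exact zero_mem _
  | add a b _ _ ha hb => rw [map_add]; exact add_mem ha hb
  | neg a _ ha => rw [map_neg]; exact neg_mem ha

theorem exists_constRank {X : Scheme.{u}} {N : ℕ} : ∀ (d a : ℕ), a + d = N → ∀ E : X.Modules, RankIn a N E →
    ∃ L : X.Modules, FlatMod.IsFinLocFreeOfRank N L ∧ KRR.cl X L - KRR.cl X E ∈ AddSubgroup.closure (lineSet X) := by
  intro d
  induction d with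
  | zero =>
    intro a ha E hE
    obtain rfl : a = N := by omega
    exact ⟨E, rank_of_rankIn hE, by rw [sub_self]; exact zero_mem _⟩
  | succ d ih =>
    intro a ha E hE
    obtain ⟨M, hM, hEM⟩ := exists_piece_step hE (by omega)
    obtain ⟨L, hL, hmem⟩ := ih (a + 1) (by omega) (E ⊞ M) hEM
    refine ⟨L, hL, ?_⟩
    have h : KRR.cl X (E ⊞ M) = KRR.cl X E + KRR.cl X M :=
      ExtFilt28.clv_ses (ShortComplex.Splitting.ofHasBinaryBiproduct E M).shortExact hE.isFinLocFree
        hEM.isFinLocFree hM.isFinLocFree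
    rw [show KRR.cl X L - KRR.cl X E = (KRR.cl X L - KRR.cl X (E ⊞ M)) + KRR.cl X M by rw [h]; abel]
    exact add_mem hmem (AddSubgroup.subset_closure ⟨M, hM, rfl⟩)

/-- After an injective pullback every class is a combination of classes of rank at most one. -/
theorem exists_split_class {S : Scheme.{u}} [CompactSpace S] (x : SGA6.Kvb S) :
    ∃ (S' : Scheme.{u}) (f : S' ⟶ S) (q : SGA6.Kvb S →+ SGA6.Kvb S'), CompactSpace S' ∧ Pulls f q ∧
      Function.Injective q ∧ q x ∈ AddSubgroup.closure (lineSet S') := by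
  revert S
  suffices key : ∀ {S : Scheme.{u}} (x : SGA6.Kvb S), CompactSpace S → ∃ (S' : Scheme.{u}) (f : S' ⟶ S)
      (q : SGA6.Kvb S →+ SGA6.Kvb S'), CompactSpace S' ∧ Pulls f q ∧ Function.Injective q ∧
        q x ∈ AddSubgroup.closure (lineSet S') from fun S hS x => key x hS
  intro S x hS
  refine KvbLam28.kvb_induction (P := fun x => ∀ (S₁ : Scheme.{u}) (g : S₁ ⟶ S) (p : SGA6.Kvb S →+ SGA6.Kvb S₁),
    CompactSpace S₁ → Pulls g p → ∃ (S' : Scheme.{u}) (f : S' ⟶ S₁)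
      (q : SGA6.Kvb S₁ →+ SGA6.Kvb S'), CompactSpace S' ∧ Pulls f q ∧ Function.Injective q ∧
        q (p x) ∈ AddSubgroup.closure (lineSet S')) ?_ ?_ ?_ ?_ x S (𝟙 S) (AddMonoidHom.id _) hS (pulls_id S)
  · intro S₁ g p hS₁ _
    exact ⟨S₁, 𝟙 _, AddMonoidHom.id _, hS₁, pulls_id _, Function.injective_id, by
      rw [map_zero, map_zero]; exact zero_mem _⟩
  · intro E hE S₁ g p hS₁ hp
    haveI := hS₁
    rw [hp E hE]
    obtain ⟨N, hN⟩ := exists_rankIn (DCat.PullPerf.isFinLocFree_pullback g hE)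
    obtain ⟨L, hL, hmem⟩ := exists_constRank N 0 (by omega) _ hN
    obtain ⟨S', f, hS', ⟨q, hq, hinj⟩, Ls, hLs, hsum⟩ := exists_split (fun A : Scheme.{u} => CompactSpace A)
      (fun {A B} (f : A ⟶ B) => ∃ q, Pulls f q ∧ Function.Injective q)
      (fun {A} _ => ⟨_, pulls_id A, Function.injective_id⟩)
      (fun {A B C g f} _ _ ⟨a, ha, ha'⟩ ⟨b, hb, hb'⟩ => ⟨a.comp b, pulls_comp ha hb, ha'.comp hb'⟩)
      (fun {P T r E π O1 q} hT hE hPB => by
        haveI := hT
        obtain ⟨p, hp⟩ := KPull28.exists_pull π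
        exact ⟨compactSpace (KPB28.locPn_of_isProjBundle hE hPB), p, hp, injective_pulls_bundle hE hPB hp⟩)
      N hS₁ L hL
    refine ⟨S', f, q, hS', hq, hinj, ?_⟩
    rw [show KRR.cl S₁ ((Scheme.Modules.pullback g).obj E) =
      KRR.cl S₁ L - (KRR.cl S₁ L - KRR.cl S₁ ((Scheme.Modules.pullback g).obj E)) by abel, map_sub]
    refine sub_mem ?_ (pulls_closure hq hmem)
    rw [hq L (VarietyLib.isFinLocFree_of_rank hL), hsum]
    exact sum_mem fun j _ => AddSubgroup.subset_closure ⟨Ls j, rankIn_of_rank (Nat.zero_le _) le_rfl (hLs j), rfl⟩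
  · intro a h S₁ g p hS₁ hp
    obtain ⟨S', f, q, h1, h2, h3, h4⟩ := h S₁ g p hS₁ hp
    exact ⟨S', f, q, h1, h2, h3, by rw [map_neg, map_neg]; exact neg_mem h4⟩
  · intro a b ha hb S₁ g p hS₁ hp
    obtain ⟨S₂, f, q, h1, h2, h3, h4⟩ := ha S₁ g p hS₁ hp
    obtain ⟨S', f', q', h1', h2', h3', h4'⟩ := hb S₂ (f ≫ g) (q.comp p) h1 (pulls_comp h2 hp)
    refine ⟨S', f' ≫ f, q'.comp q, h1', pulls_comp h2' h2, h3'.comp h3, ?_⟩
    rw [map_add, map_add]
    exact add_mem (pulls_closure h2' h4) h4'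

theorem isSpecial_of_isKRing {S : Scheme.{u}} [CompactSpace S] {K : Type v} [CommRing K] [LambdaOps K]
    {φ : SGA6.Kvb S →+ K} (hK : IsKRing S K φ) : IsSpecial K := by
  classical
  refine LambdaLib.isSpecial_of_split.{v, u + 1} (fun j hj => lam_one_eq_zero hK hj) fun x y => ?_
  obtain ⟨x₀, rfl⟩ := hK.bijective.2 x
  obtain ⟨y₀, rfl⟩ := hK.bijective.2 y
  obtain ⟨S₁, f, q, hS₁, hq, hqi, hqx⟩ := exists_split_class x₀
  haveI := hS₁
  obtain ⟨S', f', q', hS', hq', hqi', hqy⟩ := exists_split_class (q y₀)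
  have hP := pulls_comp hq' hq
  obtain ⟨mul, hmul⟩ := KvbLam28.exists_mul (X := S')
  obtain ⟨lam, hlam, hlam0, hlam1, hlamadd⟩ := KvbLam28.exists_lam mul hmul
    (fun i E hE => ExtPowEx28.exists_isExtPow hE i)
  letI : CommRing (SGA6.Kvb S') := KvbLam28.kvbRing mul hmul
  letI ops : LambdaOps (SGA6.Kvb S') := { lam := lam, lam_zero := hlam0, lam_one := hlam1, lam_add := hlamadd }
  have hK' : IsKRing S' (SGA6.Kvb S') (AddMonoidHom.id _) :=
    ⟨Function.bijective_id, rfl, fun E F hE hF => hmul E F hE hF, fun i E L hE _ hp => hlam i E L hE hp⟩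
  obtain ⟨g, hg, hgl⟩ := exists_ringHom (f' ≫ f) hK' hK
  let W : Submonoid (SGA6.Kvb S') :=
    { carrier := lineSet S'
      one_mem' := ⟨_, rankIn_of_rank (Nat.zero_le _) le_rfl KModel28.rank_structure, rfl⟩
      mul_mem' := by
        rintro _ _ ⟨M, hM, rfl⟩ ⟨M', hM', rfl⟩
        exact ⟨CohB1.tensorMod M M', hM.tensor hM', (hmul M M' hM.isFinLocFree hM'.isFinLocFree).symm⟩ }
  have hgq : ∀ z, g (φ z) = q' (q z) := fun z => by
    refine KvbLam28.kvb_induction (P := fun z => g (φ z) = q' (q z)) ?_ ?_ ?_ ?_ z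
    · simp
    · intro E hE; exact (hg E hE).trans (hP E hE).symm
    · intro a h; rw [map_neg, map_neg, h, map_neg, map_neg]
    · intro a b ha hb; rw [map_add, map_add, ha, hb, map_add, map_add]
  refine ⟨SGA6.Kvb S', inferInstance, ops, W, g, ?_, fun a b hab => ?_, hgl, ?_, ?_⟩
  · rintro w ⟨M, hM, rfl⟩ j hj
    obtain ⟨L, hL, hp⟩ := ExtPowEx28.exists_isExtPow hM.isFinLocFree j
    exact (hlam j M L hM.isFinLocFree hp).trans (KModel28.cl_isZero (isZero_extPow_of_rankIn (by omega) hM hp))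
  · obtain ⟨a, rfl⟩ := hK.bijective.2 a
    obtain ⟨b, rfl⟩ := hK.bijective.2 b
    rw [hgq, hgq] at hab
    rw [hqi (hqi' hab)]
  · rw [hgq]; exact pulls_closure hq' hqx
  · rw [hgq]; exact hqy

end Groth.Agent.KSplit28
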